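import Cfsg.Agent.Omega.ML.Ex.Lie2.Def
import Cfsg.Agent.Omega.ML.Ex.Typ.List
import Cfsg.Agent.Nodes.RGDTwE6

/-!
# The row `lie2`: data of `²E₆(q)` (helper949)

`G ≃ ²E₆(q)`, `q` even: a root group datum of type `F₄` with generation, `|X₀| ≠ |X₃|` (the orders are at most `q` and
at least `q²`).
-/

set_option autoImplicit false

namespace Cfsg.Agent.Omega.ML.Ex.Lie2.DatE6

open Cfsg Cfsg.Lie
open CoxeterSystem Cfsg.Agent.ChevalleyStructure.CoxeterGeom Cfsg.Agent.Tits.Roots Cfsg.Agent.Tits.Core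
  Cfsg.Agent.Nodes.BNOf Cfsg.Agent.Nodes.RGDLib
open Cfsg.Agent.ChevalleyStructure
open Cfsg.Agent.ChevalleyStructure.TwE6Basic (posE negE sg fix n exists_frob twisted_le_fix mem_fix x_injective x_add
  sg_x_class pair_mem)
open Cfsg.Agent.ChevalleyStructure.TwE6BN (rs x_mem_rs rs_single)

universe u

/-- a root group datum of characteristic two and type `F₄`, with generation and `|X₀| ≠ |X₃|` -/
def HasNe (G : Type*) [Group G] : Prop :=
  ∃ (A : Fin 4 → Fin 4 → ℤ) (h : IsCartan CoxeterMatrix.F₄ A) (T : Subgroup G) (n : Fin 4 → G)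
    (X : (Fin 4 → ℤ) → Subgroup G), Rg h T n X ∧ Nat.card (X (sr 0)) ≠ Nat.card (X (sr 3))

theorem HasNe.of_equiv {G H : Type*} [Group G] [Group H] (e : G ≃* H) (hG : HasNe G) : HasNe H := by
  obtain ⟨A, h, T, n, X, R, hc⟩ := hG
  refine ⟨A, h, T.map e.toMonoidHom, fun i => e (n i), fun x => (X x).map e.toMonoidHom,
    ⟨R.fin, rgd_map_of_injective R.rgd e.toMonoidHom e.injective, ?_⟩, ?_⟩
  · have h1 : (RGD.Sup X {x | IsRoot CoxeterMatrix.F₄.toCoxeterSystem h x}).map e.toMonoidHom =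
        RGD.Sup (fun x => (X x).map e.toMonoidHom) {x | IsRoot CoxeterMatrix.F₄.toCoxeterSystem h x} := by
      unfold RGD.Sup
      rw [Subgroup.map_iSup]
    rw [← h1, R.gen, Subgroup.map_top_of_surjective _ e.surjective]
  · have h2 : ∀ Y : Subgroup G, Nat.card (Y.map e.toMonoidHom) = Nat.card Y := fun Y =>
      Subgroup.card_map_of_injective e.injective
    rwa [h2, h2]

section

variable {K : Type u} [Field K] [Fintype K] {q : ℕ} {φ : K →+* K}

theorem card_fixed_le (hq : 1 < q) : Nat.card {t : K // t ^ q = t} ≤ q := by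
  classical
  rw [Nat.card_eq_fintype_card, Fintype.card_subtype]
  have h1 : (Finset.univ.filter fun t : K => t ^ q = t) ⊆ (Polynomial.X ^ q - Polynomial.X : Polynomial K).roots.toFinset := by
    intro t ht
    rw [Finset.mem_filter] at ht
    rw [Multiset.mem_toFinset, Polynomial.mem_roots (FiniteField.X_pow_card_sub_X_ne_zero K hq)]
    simp [ht.2]
  calc _ ≤ _ := Finset.card_le_card h1
    _ ≤ _ := Multiset.toFinset_card_le _
    _ ≤ _ := Polynomial.card_roots' _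
    _ = q := FiniteField.X_pow_card_sub_X_natDegree_eq K hq

theorem card_zero (hφ : ∀ x, φ x = x ^ q) (hq : 1 < q) : Nat.card (Nodes.RGDTwE6.X φ q (sr 0)) ≤ q := by
  refine le_trans ?_ (card_fixed_le (K := K) hq)
  have key : ∀ g : Nodes.RGDTwE6.X φ q (sr 0), ∃ t : K, t ^ q = t ∧ ((g : ↥(twistedE6 K q)) : GL chevE6.Idx K) =
      TwE6Basic.x 46 t := by
    intro g
    have h1 : ((g : ↥(twistedE6 K q)) : GL chevE6.Idx K) ∈
        Nodes.RGDFold.R chevE6 Nodes.RGDTwE6.hp K Nodes.RGDTwE6.J (sg φ) (sr 0) := g.2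
    rw [Nodes.RGDTwE6.R_pos] at h1
    obtain ⟨t, ht⟩ := rs_single (r := 46) (K := K) h1.1
    refine ⟨t, ?_, ht⟩
    have h2 := mem_fix.1 h1.2
    rw [ht] at h2
    have h3 := sg_x_class φ (i := 0) (r := (46 : Fin 72)) (by decide +kernel) t
    have h4 : (TwE6Basic.rho (46 : Fin 72)).val = 46 := by decide +kernel
    rw [h4] at h3
    rw [← hφ]
    exact x_injective (r := 46) (by norm_num) (h3.symm.trans h2)
  refine Nat.card_le_card_of_injective (fun g => ⟨(key g).choose, (key g).choose_spec.1⟩) ?_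
  intro g g' hg
  have h1 : (key g).choose = (key g').choose := congrArg Subtype.val hg
  apply Subtype.ext
  apply Subtype.ext
  rw [(key g).choose_spec.2, (key g').choose_spec.2, h1]

theorem card_three (hφ : ∀ x, φ x = x ^ q) (hqq : ∀ t : K, (t ^ q) ^ q = t) :
    Nat.card K ≤ Nat.card (Nodes.RGDTwE6.X φ q (sr 3)) := by
  have hm : ∀ t : K, TwE6Basic.x 56 t * TwE6Basic.x 36 (t ^ q) ∈ twistedE6 K q := fun t =>
    pair_mem (q := q) t (rs := (56, 36)) (by simp)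
  have hR : ∀ t : K, TwE6Basic.x 56 t * TwE6Basic.x 36 (t ^ q) ∈
      Nodes.RGDFold.R chevE6 Nodes.RGDTwE6.hp K Nodes.RGDTwE6.J (sg φ) (sr 3) := by
    intro t
    rw [Nodes.RGDTwE6.R_pos]
    exact ⟨mul_mem (x_mem_rs (by decide +kernel) t) (x_mem_rs (by decide +kernel) _),
      twisted_le_fix φ hφ hqq (hm t)⟩
  refine Nat.card_le_card_of_injective
    (fun t => (⟨⟨_, hm t⟩, hR t⟩ : Nodes.RGDTwE6.X φ q (sr 3))) ?_
  intro t u h
  have h1 : TwE6Basic.x 56 t * TwE6Basic.x 36 (t ^ q) = TwE6Basic.x 56 u * TwE6Basic.x 36 (u ^ q) :=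
    congrArg (fun z : Nodes.RGDTwE6.X φ q (sr 3) => ((z : ↥(twistedE6 K q)) : GL chevE6.Idx K)) h
  exact (TwE6BN.pair3.x_pair_inj h1).1

end

/-- **`²E₆(q)`, `q` even.** -/
theorem ne_twE6 {K : Type u} [Field K] [Fintype K] [CharP K 2] {q : ℕ} (hq : IsPrimePow q)
    (hK : Fintype.card K = q ^ 2) : HasNe ↥(twistedE6 K q) := by
  have : Fact (Nat.Prime 2) := ⟨Nat.prime_two⟩
  obtain ⟨φ, hφ, hqq⟩ := exists_frob hq hK
  refine ⟨_, Nodes.RGDTwE6.isCartan, _, _, _,
    ⟨Nodes.RGDFold.finite_W (hp := Nodes.RGDTwE6.hp) CoxeterMatrix.F₄.toCoxeterSystem Nodes.RGDTwE6.isCartan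
      Nodes.RGDTwE6.foldData, Nodes.RGDTwE6.rgd _ hφ hqq 2, Nodes.RGDTwE6.G1_eq_top _ hφ hqq⟩, ?_⟩
  intro h
  have h1 := card_zero (K := K) hφ hq.one_lt
  have h2 := card_three hφ hqq
  rw [← h, Nat.card_eq_fintype_card, hK] at h2
  have h3 := hq.one_lt
  nlinarith [h2.trans h1]

end Cfsg.Agent.Omega.ML.Ex.Lie2.DatE6
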