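import Cfsg.Agent.Omega.ML.Ex.Lie2.Dat
import Cfsg.Agent.Omega.EH3.Kf.TwWitt
import Cfsg.Agent.Omega.EH3.Kf.TwUni
import Cfsg.Agent.Omega.EH3.Kf.UOdd
import Cfsg.Agent.Omega.EH3.Kf.Lev
import Cfsg.Agent.Omega.Lie.End.KTrFree
import Cfsg.Agent.Omega.Lie.End.KWittRow

/-!
# Data for the rows with perfect fixers: `PSU_N(q)`, `PSp_2m(q)` (helper613)

* `le_comm_of_fp`, `le_comm_of_tr`, `le_comm_of_trNode` : `X_i ≤ ⁅L_i, L_i⁆`, `L_i = ⟨X_i, X_{-i}⟩`, from a torus element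
  which acts without fixed points, resp. from a transitive torus;
* `dt_model` : the data of a Witt model;
* **`dt_PSU_even`, `dt_PSU_odd`, `dt_PSU`** : `PSU_N(q)`; **`dt_PSp`** : `PSp_2m(q)`, `q ≥ 4`.
-/

set_option autoImplicit false
set_option linter.unusedSectionVars false

namespace Cfsg.Agent.Omega.ML.Ex.Lie2

open CoxeterSystem Cfsg.Agent.ChevalleyStructure.CoxeterGeom Cfsg.Agent.Tits.Roots Cfsg.Agent.Nodes.TypeC
open Cfsg.Agent.Nodes.Comb Cfsg.Agent.Nodes.Reps Cfsg.Agent.Nodes.WittRoot Cfsg.Agent.Nodes.BNOf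
open Cfsg.Agent.Nodes Cfsg.Agent.Nodes.WittAll Cfsg.Agent.Nodes.WittU
open Cfsg.Agent.TitsThree Cfsg.Agent.TitsThree.Siegel Cfsg.Agent.TitsThree.SiegelGen Cfsg.Agent.TitsThree.WittFrame
  Cfsg.Agent.TitsThree.WBridge Cfsg.Agent.TitsThree.WittWeyl Cfsg.Agent.TitsThree.FrameCN
open Cfsg.Agent.Omega.Lie.End Cfsg.Agent.Omega.Lie.End.KWitt Cfsg.Agent.Omega.Lie.End.KWittRow
open Cfsg.Agent.Omega.EH3.Kf
open scoped commutatorElement

/-! ### Perfect nodes -/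

section perf

variable {Y : Type*} [Group Y]

/-- `P ≤ ⁅L, L⁆` if an element of `L` acts without fixed points on `P ≤ L` -/
theorem le_comm_of_fp {P L : Subgroup Y} [Finite P] {t : Y} (ht : t ∈ L) (hP : P ≤ L)
    (hn : ∀ x ∈ P, t * x * t⁻¹ ∈ P) (hf : ∀ x ∈ P, t * x * t⁻¹ = x → x = 1) : P ≤ ⁅L, L⁆ := by
  let f : P → P := fun x => ⟨t * x * t⁻¹ * (x : Y)⁻¹, mul_mem (hn x x.2) (inv_mem x.2)⟩
  have hfi : Function.Injective f := by
    intro x y hxy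
    have h1 : t * x * t⁻¹ * (x : Y)⁻¹ = t * y * t⁻¹ * (y : Y)⁻¹ := congrArg Subtype.val hxy
    have h2 : t * ((y : Y)⁻¹ * x) * t⁻¹ = (y : Y)⁻¹ * x := by
      have h3 : t * x * t⁻¹ = t * y * t⁻¹ * (y : Y)⁻¹ * x := by rw [← h1]; group
      calc t * ((y : Y)⁻¹ * x) * t⁻¹ = (t * y * t⁻¹)⁻¹ * (t * x * t⁻¹) := by group
        _ = (t * y * t⁻¹)⁻¹ * (t * y * t⁻¹ * (y : Y)⁻¹ * x) := by rw [h3]
        _ = (y : Y)⁻¹ * x := by group
    have h3 := hf _ (mul_mem (inv_mem y.2) x.2) h2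
    exact Subtype.ext (inv_mul_eq_one.1 h3).symm
  intro w hw
  obtain ⟨x, hx⟩ := (Finite.injective_iff_surjective.1 hfi) ⟨w, hw⟩
  have h1 : t * x * t⁻¹ * (x : Y)⁻¹ = w := congrArg Subtype.val hx
  rw [← h1]
  exact Subgroup.commutator_mem_commutator ht (hP x.2)

/-- `P ≤ ⁅L, L⁆` if `L` is transitive on the nontrivial elements of the group `P ≤ L` of exponent two -/
theorem le_comm_of_tr {P L : Subgroup Y} (hP : P ≤ L) (h2 : ∀ u ∈ P, u * u = 1)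
    (h3 : ∃ x ∈ P, ∃ y ∈ P, x ≠ 1 ∧ y ≠ 1 ∧ x ≠ y)
    (htr : ∀ u ∈ P, ∀ u' ∈ P, u ≠ 1 → u' ≠ 1 → ∃ t ∈ L, t * u * t⁻¹ = u') : P ≤ ⁅L, L⁆ := by
  obtain ⟨x, hx, y, hy, hx1, hy1, hxy⟩ := h3
  intro w hw
  obtain ⟨u, hu, hu1, huw⟩ : ∃ u ∈ P, u ≠ 1 ∧ u ≠ w := by
    by_cases h : x = w
    · exact ⟨y, hy, hy1, fun h' => hxy (h.trans h'.symm)⟩
    · exact ⟨x, hx, hx1, h⟩
  have h4 : w * u ≠ 1 := by
    intro h5
    apply huw
    exact mul_right_cancel ((h2 u hu).trans h5.symm)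
  obtain ⟨t, ht, e⟩ := htr u hu (w * u) (mul_mem hw hu) hu1 h4
  have h5 : w = ⁅t, u⁆ := by
    rw [commutatorElement_def, e]; group
  rw [h5]
  exact Subgroup.commutator_mem_commutator ht (hP hu)

variable {I : Type*} [DecidableEq I] {T : Subgroup Y} {n : I → Y} {X : (I → ℤ) → Subgroup Y} {i : I}

theorem le_comm_of_trNode (h : KTorus.TrNode T n X i) :
    X (sr i) ≤ ⁅X (sr i) ⊔ X (-sr i), X (sr i) ⊔ X (-sr i)⁆ :=
  le_comm_of_tr le_sup_left h.sq h.two fun u hu u' hu' h1 h1' => by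
    obtain ⟨t, ht, e⟩ := h.tr u hu u' hu' h1 h1'
    exact ⟨t, ht.2.1, e⟩

end perf

/-! ### Witt models -/

section model

variable {F : Type*} [Field F] {V : Type*} [AddCommGroup V] [Module F V] {H : HForm F V} {n : ℕ}
  {Fr : Frame H (Fin n)} {K : Type*} [Group K] (M : Model Fr K)

theorem commGen_model (G : TwC.Gd (WittModel.X M)) :
    Lev.CommGen (CoxeterMatrix.B n).toCoxeterSystem (TypeC.isCartan n) (WittModel.X M) :=
  fun _ hr h0 hs => G.gen _ hr h0 hs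

variable [CharP F 2] [Finite K] (hA : AmbT Fr 2 M.I)

include hA

/-- the nodes of type I -/
theorem node_one {i : Fin n} (hi : (i : ℕ) + 1 < n) {t : F} (ht0 : t ≠ 0) (ht1 : t ≠ 1) :
    WittModel.X M (sr i) ≤ ⁅Li (WittModel.X M) i, Li (WittModel.X M) i⁆ := by
  have hTL := mem_TL hA (hx_mem hA) (mono_hx hi ht0) (hx_mem_sup hi t)
  refine le_comm_of_fp (t := M.φ ⟨hx Fr (i, true) (nx i) t, hx_mem hA⟩) hTL.2 le_sup_left ?_ ?_
  · intro x hx
    obtain ⟨s, rfl⟩ := (mem_X_one hi).1 hx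
    exact (mem_X_one hi).2 ⟨_, phi_conj (hx_mem hA) _ (M.hX _ _ _) (hx_conj_X Fr (ne_nx hi) ht0 s)⟩
  · intro x hx1 hx2
    obtain ⟨s, rfl⟩ := (mem_X_one hi).1 hx1
    rw [phi_conj (hx_mem hA) _ (M.hX _ _ _) (hx_conj_X Fr (ne_nx hi) ht0 s)] at hx2
    have h1 := phi_inj_X (ne_nx hi) hx2
    apply X_eq_one
    have h3 : (t * t - 1) * s = 0 := by
      rw [sub_mul, one_mul, ← pow_two, h1, sub_self]
    have h5 : t * t - 1 = (t - 1) * (t - 1) := by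
      have : (2 : F) = 0 := CharTwo.two_eq_zero
      linear_combination (-1 + t) * this
    rw [h5] at h3
    exact (mul_eq_zero.1 h3).resolve_left (mul_ne_zero (sub_ne_zero.2 ht1) (sub_ne_zero.2 ht1))

/-- the last node -/
theorem node_two {j : Fin n} (hj : ¬ (j : ℕ) + 1 < n) {p0 : Fr.Adm} (hp0 : p0.c ≠ 0) {l : F} (hl0 : l ≠ 0)
    (hl1 : l * H.σ l ≠ 1) : WittModel.X M (sr j) ≤ ⁅Li (WittModel.X M) j, Li (WittModel.X M) j⁆ := by
  have hσ : H.σ l ≠ 0 := by simpa using hl0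
  have hc : (Frame.Adm.smul l p0 : Fr.Adm).c ≠ 0 := mul_ne_zero (mul_ne_zero hl0 hσ) hp0
  have hconj : ∀ r : Fr.Adm, hz Fr (j, true) (Frame.Adm.smul l p0) p0 * Fr.Z (j, true) r *
      (hz Fr (j, true) (Frame.Adm.smul l p0) p0)⁻¹ = Fr.Z (j, true) (Frame.Adm.smul (l * H.σ l) r) := by
    intro r
    rw [hz_conj_Z Fr hc hp0 r r (hz_smul_V0 Fr hl0 hp0 (Fr.ok_mem r.ok)) rfl]
    congr 2
    rw [Frame.Adm.smul_c, map_mul, map_mul, map_mul, map_inv₀, H.σσ]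
    have : H.σ p0.c ≠ 0 := by simpa using hp0
    field_simp
  have hTL := mem_TL hA (hz_mem hA) (mono_hz hj hc hp0) (hz_mem_sup hj (Frame.Adm.smul l p0) p0)
  refine le_comm_of_fp (t := M.φ ⟨hz Fr (j, true) (Frame.Adm.smul l p0) p0, hz_mem hA⟩) hTL.2 le_sup_left ?_ ?_
  · intro x hx
    obtain ⟨r, rfl⟩ := (mem_X_two hj).1 hx
    exact (mem_X_two hj).2 ⟨_, phi_conj (hz_mem hA) _ (M.hZ _ _) (hconj r)⟩
  · intro x hx1 hx2
    obtain ⟨r, rfl⟩ := (mem_X_two hj).1 hx1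
    rw [phi_conj (hz_mem hA) _ (M.hZ _ _) (hconj r)] at hx2
    have h1 := phi_inj_Z hx2
    apply Z_eq_one
    refine smul_eq_self hl1 ?_ h1
    rw [map_mul, H.σσ, mul_comm]

/-- **the data of a Witt model**, with visible root groups -/
theorem dtx_model [Finite V] (hn : 0 < n) {p0 : Fr.Adm} (hp0 : p0.c ≠ 0) (G : TwC.Gd (WittModel.X M))
    {t : F} (ht0 : t ≠ 0) (ht1 : t ≠ 1) {pf : Fin n → Prop}
    (hpf : ∀ j, pf j → ¬ (j : ℕ) + 1 < n → ∃ l : F, l ≠ 0 ∧ l * H.σ l ≠ 1) :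
    ∃ nn : Fin n → K, Dt (TypeC.isCartan n) (WittModel.T M) nn (WittModel.X M) pf := by
  have : Fact (Nat.Prime 2) := ⟨Nat.prime_two⟩
  refine ⟨_,
    { fin := TypeC.finite_W (CoxeterMatrix.B n).toCoxeterSystem
      rgd := rgdC_model M hA hp0 _
      gen := WittModel.G1_eq_top _ hn _
      comm := commGen_model M G
      perf := ?_ }⟩
  intro i hi
  by_cases h1 : (i : ℕ) + 1 < n
  · exact node_one M hA h1 ht0 ht1
  · obtain ⟨l, hl0, hl1⟩ := hpf i hi h1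
    exact node_two M hA h1 hp0 hl0 hl1

/-- **the data of a Witt model** -/
theorem dt_model [Finite V] (hn : 0 < n) {p0 : Fr.Adm} (hp0 : p0.c ≠ 0) (G : TwC.Gd (WittModel.X M))
    {t : F} (ht0 : t ≠ 0) (ht1 : t ≠ 1) {pf : Fin n → Prop}
    (hpf : ∀ j, pf j → ¬ (j : ℕ) + 1 < n → ∃ l : F, l ≠ 0 ∧ l * H.σ l ≠ 1) : HasDt (CoxeterMatrix.B n) pf K := by
  obtain ⟨nn, h⟩ := dtx_model M hA hn hp0 G ht0 ht1 hpf
  exact ⟨_, _, _, nn, _, h⟩

end model

/-! ### Unitary groups -/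

section Unitary

open Cfsg.Agent.TitsThree.KSideU Cfsg.Agent.TitsThree.KSideUDesc

variable {F : Type*} [Field F] [Fintype F] {q N : ℕ}

theorem exists_elt (hF : Fintype.card F = q ^ 2) (hq : 2 < q) : ∃ l : F, l ≠ 0 ∧ l * l ^ q ≠ 1 := by
  classical
  obtain ⟨g, hg⟩ := IsCyclic.exists_generator (α := Fˣ)
  refine ⟨g, g.ne_zero, fun h => ?_⟩
  have h1 : g ^ (q + 1) = 1 := by
    ext
    rw [Units.val_pow_eq_pow_val, pow_succ, mul_comm, Units.val_one]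
    exact h
  have h2 : orderOf g = q ^ 2 - 1 := by
    rw [orderOf_eq_card_of_forall_mem_zpowers hg, Nat.card_eq_fintype_card, Fintype.card_units, hF]
  have h3 := orderOf_dvd_of_pow_eq_one h1
  rw [h2] at h3
  have h4 := Nat.le_of_dvd (by omega) h3
  have h5 : 3 * q ≤ q ^ 2 := by rw [pow_two]; exact Nat.mul_le_mul_right _ hq
  omega

theorem exists_ne (hF : 2 < Fintype.card F) : ∃ t : F, t ≠ 0 ∧ t ≠ 1 := by
  classical
  obtain ⟨t, ht⟩ := Fintype.exists_ne_of_one_lt_card (α := Fˣ) (by rw [Fintype.card_units]; omega) 1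
  exact ⟨t, t.ne_zero, fun h => ht (Units.ext h)⟩

theorem two_lt [CharP F 2] (hF : Fintype.card F = q ^ 2) : 2 < Fintype.card F := by
  have h1 : 1 < Fintype.card F := Fintype.one_lt_card
  rw [hF] at h1 ⊢
  rcases Nat.lt_or_ge q 2 with h2 | h2
  · interval_cases q <;> simp at h1
  · have h5 : 2 * 2 ≤ q ^ 2 := by rw [pow_two]; exact Nat.mul_le_mul h2 h2
    omega

/-- **`PSU_N(q)`, `N` even**: the datum of the model over any Witt frame without anisotropic part -/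
theorem dtx_PSU_even [CharP F 2] {m : ℕ} (hF : Fintype.card F = q ^ 2) (hm : 0 < m) (hN : 3 ≤ N)
    (W : WFrame (PU hF N) m) (hW : W.V0 = ⊥) : ∃ nn : Fin m → PSU N F q,
      Dt (TypeC.isCartan m) (WittModel.T (KInstU.model hF hN W)) nn (WittModel.X (KInstU.model hF hN W))
        (fun i => (i : ℕ) + 1 < m ∨ 2 < q) := by
  have : Fact (Nat.Prime 2) := ⟨Nat.prime_two⟩
  have : Finite (PSU N F q) := Quotient.finite _
  obtain ⟨p0, hp0, -⟩ := exists_adm hF W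
  have hA : AmbT (toFrame W) 2 (KInstU.model hF hN W).I := AmbT.of_amb (amb_U hF W) 2
  obtain ⟨t, ht0, ht1⟩ := exists_ne (two_lt hF)
  refine dtx_model (KInstU.model hF hN W) hA hm hp0
    (TwWitt.gd_of_tr _ (TwUni.htr hF W hW) hp0) ht0 ht1 ?_
  rintro j (hj | hj) hj'
  · exact absurd hj hj'
  · exact exists_elt hF hj

/-- **`PSU_N(q)`, `N` odd**: the datum of the model over any Witt frame with anisotropic part `⟨d⟩` -/
theorem dtx_PSU_odd [CharP F 2] {m : ℕ} (hF : Fintype.card F = q ^ 2) (hm : 0 < m) (hN : 3 ≤ N)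
    (W : WFrame (PU hF N) m) {d : Fin N → F} (hd : hermForm N F q d d = 1) (hW : W.V0 = Submodule.span F {d}) :
    ∃ nn : Fin m → PSU N F q,
      Dt (TypeC.isCartan m) (WittModel.T (KInstU.model hF hN W)) nn (WittModel.X (KInstU.model hF hN W))
        (fun i => (i : ℕ) + 1 < m ∨ 2 < q) := by
  have : Fact (Nat.Prime 2) := ⟨Nat.prime_two⟩
  have : Finite (PSU N F q) := Quotient.finite _
  obtain ⟨p0, hp0, -⟩ := exists_adm hF W
  have hA : AmbT (toFrame W) 2 (KInstU.model hF hN W).I := AmbT.of_amb (amb_U hF W) 2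
  obtain ⟨t, ht0, ht1⟩ := exists_ne (two_lt hF)
  refine dtx_model (KInstU.model hF hN W) hA hm hp0
    (UOdd.gd _ ⟨d, ?_, UOdd.exists_ok hF W hW⟩) ht0 ht1 ?_
  · have h1 : (HU hF N).h d d = 1 := hd
    rw [h1]
    exact one_ne_zero
  rintro j (hj | hj) hj'
  · exact absurd hj hj'
  · exact exists_elt hF hj

/-- **`PSU_N(q)`, `N` even** -/
theorem dt_PSU_even [CharP F 2] {m : ℕ} (hF : Fintype.card F = q ^ 2) (hm : 2 ≤ m) (hN : N = 2 * m) :
    HasDt (CoxeterMatrix.B m) (fun i => (i : ℕ) + 1 < m ∨ 2 < q) (PSU N F q) := by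
  subst hN
  obtain ⟨W, hW⟩ := exists_wframe_even (N := 2 * m) hF rfl
  obtain ⟨nn, h⟩ := dtx_PSU_even hF (by omega) (by omega) W hW
  exact ⟨_, _, _, nn, _, h⟩

/-- **`PSU_N(q)`, `N` odd** -/
theorem dt_PSU_odd [CharP F 2] {m : ℕ} (hF : Fintype.card F = q ^ 2) (hm : 1 ≤ m) (hN : N = 2 * m + 1) :
    HasDt (CoxeterMatrix.B m) (fun i => (i : ℕ) + 1 < m ∨ 2 < q) (PSU N F q) := by
  subst hN
  obtain ⟨W, d, hd, hW⟩ := exists_wframe_odd (N := 2 * m + 1) hF rfl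
  obtain ⟨nn, h⟩ := dtx_PSU_odd hF (by omega) (by omega) W hd hW
  exact ⟨_, _, _, nn, _, h⟩

/-- **`PSU_N(q)`** -/
theorem dt_PSU [CharP F 2] (hF : Fintype.card F = q ^ 2) (hN : 4 ≤ N) :
    ∃ m, 2 ≤ m ∧ (N = 2 * m ∨ N = 2 * m + 1) ∧
      HasDt (CoxeterMatrix.B m) (fun i => (i : ℕ) + 1 < m ∨ 2 < q) (PSU N F q) := by
  obtain ⟨m, hm⟩ : ∃ m, N = 2 * m ∨ N = 2 * m + 1 := ⟨N / 2, by omega⟩
  refine ⟨m, by omega, hm, ?_⟩
  rcases hm with hm | hm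
  · exact dt_PSU_even hF (by omega) hm
  · exact dt_PSU_odd hF (by omega) hm

end Unitary

/-! ### Symplectic groups -/

section Symplectic

open SpIdent SpGen

/-- **`PSp_2m(q)`, `q > 2`**, with visible root groups -/
theorem dtx_PSp {F : Type*} [Field F] [Fintype F] [CharP F 2] (hF : 2 < Fintype.card F) {m : ℕ} (hm : 1 ≤ m) :
    ∃ nn : Fin m → PSp m F, Dt (TypeC.isCartan m) (WittModel.T (KInstSp.model m F)) nn
      (WittModel.X (KInstSp.model m F)) (fun _ => True) := by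
  have : Fact (Nat.Prime 2) := ⟨Nat.prime_two⟩
  have : Finite (PSp m F) := Quotient.finite _
  have hA : AmbT (frame m F) 2 (KInstSp.model m F).I := AmbT.of_amb amb_Sp 2
  obtain ⟨t, ht0, ht1⟩ := exists_ne hF
  have hw : ∀ p : (frame m F).Adm, p.w = 0 := fun p => (Submodule.mem_bot F).1 ((frame m F).ok_mem p.ok)
  refine dtx_model (KInstSp.model m F) hA (by omega) (p0 := SpIdent.adm 1) one_ne_zero
    (TwWitt.gd_of_sp _ hw (fun _ => rfl) (fun c => ⟨SpIdent.adm c, rfl⟩) ht0 ht1) ht0 ht1 ?_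
  intro j _ _
  refine ⟨t, ht0, fun h => ht1 ?_⟩
  have h1 : t * t = 1 := h
  have h5 : (t - 1) * (t - 1) = 0 := by
    have : (2 : F) = 0 := CharTwo.two_eq_zero
    linear_combination h1 + (1 - t) * this
  exact sub_eq_zero.1 (mul_self_eq_zero.1 h5)

/-- **`PSp_2m(q)`, `q > 2`** -/
theorem dt_PSp {F : Type*} [Field F] [Fintype F] [CharP F 2] (hF : 2 < Fintype.card F) {m : ℕ} (hm : 1 ≤ m) :
    HasDt (CoxeterMatrix.B m) (fun _ => True) (PSp m F) := by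
  obtain ⟨nn, h⟩ := dtx_PSp hF hm
  exact ⟨_, _, _, nn, _, h⟩

end Symplectic

end Cfsg.Agent.Omega.ML.Ex.Lie2
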