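import Cfsg.Agent.Omega.ML.Ex.Lie2.Dat
import Cfsg.Agent.Omega.EH3.Kf.FamG2
import Cfsg.Agent.Omega.EH3.Kf.FamD4
import Cfsg.Agent.ChevalleyStructure.D4H1
import Cfsg.Agent.Omega.Lie.End.KTrFree

/-!
# The Lie(2) row of the W-part: the data of `G₂(q)` and `³D₄(q)` (cut #23457 (4); helper833)

* `le_comm_of_tr` : `X_i ≤ [L_i, L_i]` for the nodes of type `TrNode`; `le_comm_node` : `|X_i| ≥ 4`, `X_i` of exponent two;
* `G2.commGen`, `G2.node`, **`dt_G2`** : `G₂(q)`, `q ≥ 4`;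
* `D4.commGen`, `D4.node0`, `D4.node1`, **`dt_D4`** : `³D₄(q)`, `q ≥ 4`; `dt_D4'` : `³D₄(q)`, `q` even, the node over `F_{q³}`.
-/

set_option autoImplicit false
set_option linter.unusedSectionVars false

namespace Cfsg.Agent.Omega.ML.Ex.Lie2.DataG

open CoxeterSystem Cfsg.Agent.ChevalleyStructure.CoxeterGeom Cfsg.Agent.Tits.Roots Cfsg.Agent.Tits.Core
  Cfsg.Agent.Tits.RootComb Cfsg.Agent.Nodes.Comb Cfsg.Agent.Nodes.Reps Cfsg.Agent.Nodes.BNOf Cfsg.Agent.Nodes.BNOf.RGD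
  Cfsg.Agent.Nodes.FreeTorus Cfsg.Agent.Omega.Lie.End.KTorus
open Cfsg.Lie Cfsg.Agent.ChevalleyStructure
open Cfsg.Agent.Omega.EH3.Kf Cfsg.Agent.Omega.EH3.Kf.Lev
open scoped commutatorElement

universe u v

section node

variable {I W Y : Type*} [Fintype I] [DecidableEq I] [Group W] [Group Y] {M : CoxeterMatrix I}
  {cs : CoxeterSystem M W} {A : I → I → ℤ} {h : IsCartan M A} {T : Subgroup Y} {n : I → Y}
  {X : (I → ℤ) → Subgroup Y}

/-- a node with a transitive torus -/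
theorem le_comm_of_tr {i : I} (hN : TrNode T n X i) : X (sr i) ≤ ⁅Li X i, Li X i⁆ := by
  intro x hx
  by_cases hx1 : x = 1
  · rw [hx1]; exact one_mem _
  obtain ⟨y, hy, hy1, hyx⟩ : ∃ y ∈ X (sr i), y ≠ 1 ∧ y ≠ x := by
    obtain ⟨a, ha, b, hb, ha1, hb1, hab⟩ := hN.two
    by_cases hax : a = x
    · exact ⟨b, hb, hb1, fun h1 => hab (hax.trans h1.symm)⟩
    · exact ⟨a, ha, ha1, hax⟩
  have hxy : x * y ≠ 1 := by
    intro h1
    apply hyx
    have h2 := hN.sq y hy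
    exact (mul_right_cancel (h1.trans h2.symm)).symm
  obtain ⟨t, ht, e⟩ := hN.tr y hy (x * y) (mul_mem hx hy) hy1 hxy
  have h1 : ⁅t, y⁆ = x := by
    rw [commutatorElement_def, e, mul_inv_cancel_right]
  rw [← h1]
  exact Subgroup.commutator_mem_commutator ht.2.1 (le_sup_left (a := X (sr i)) hy)

/-- a node with at least four elements, of exponent two -/
theorem le_comm_node [Finite W] [Finite Y] (R : RGD cs h 2 T n X) (hTc : ∀ s ∈ T, ∀ t ∈ T, s * t = t * s) {i : I}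
    (h4 : 4 ≤ Nat.card (X (sr i))) (hsq : ∀ x ∈ X (sr i), x * x = 1) : X (sr i) ≤ ⁅Li X i, Li X i⁆ :=
  le_comm_of_tr (Cfsg.Agent.Omega.Lie.End.KTrFree.trNode R hTc h4 hsq)

end node

/-! ### `G₂(q)` -/

namespace G2

variable {K : Type v} [Field K] [CharP K 2]

theorem commGen (hK : ∃ t : K, t ≠ 0 ∧ t ≠ 1) :
    CommGen CoxeterMatrix.G₂.toCoxeterSystem FamG2.isType.isCartan (FamG2.X K) := by
  intro x hx h0 hs
  obtain ⟨r, hr, rfl⟩ := (Nodes.RGDChev.isRoot_iff FamG2.isType _ _).1 hx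
  have h1 := FamG2.pos_tab r hr (fun k => h0 k)
  have h2 : r = 8 ∨ r = 9 ∨ r = 10 ∨ r = 11 := by
    rcases h1 with rfl | rfl | h1
    · exact absurd FamG2.vec6 (hs 1)
    · exact absurd FamG2.vec7 (hs 0)
    · exact h1
  intro g hg
  obtain ⟨t, rfl⟩ := FamG2.mem_X hr hg
  exact FamG2.mem_comm hK h2 t

theorem card_X [Finite K] {r : ℕ} (hr : r < 12) : Nat.card (FamG2.X K (Nodes.RGDChev.vec chevG2 2 r)) = Nat.card K := by
  refine (Nat.card_congr (Equiv.ofBijective (fun t : K => (⟨FamG2.e K r t, FamG2.e_mem hr t⟩ :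
    FamG2.X K (Nodes.RGDChev.vec chevG2 2 r))) ⟨fun a b hab => ?_, fun g => ?_⟩)).symm
  · have h1 : FamG2.e K r a = FamG2.e K r b := congrArg Subtype.val hab
    by_contra hne
    have h2 : FamG2.e K r (a - b) ≠ 1 := FamG2.e_ne hr (sub_ne_zero.2 hne)
    apply h2
    have h3 := FamG2.e_add (K := K) r (a - b) b
    rw [sub_add_cancel, h1] at h3
    exact mul_eq_right.1 h3
  · obtain ⟨t, ht⟩ := FamG2.mem_X hr g.2
    exact ⟨t, Subtype.ext ht.symm⟩

theorem node [Finite K] (h4 : 4 ≤ Nat.card K) (i : Fin 2) :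
    FamG2.X K (sr i) ≤ ⁅Li (FamG2.X K) i, Li (FamG2.X K) i⁆ := by
  have b := FamChev.bd FamG2.isType (K := K)
  have := b.fin
  refine le_comm_node b.rgd b.ab ?_ (b.el i)
  have h1 : ∃ r < 12, Nodes.RGDChev.vec chevG2 2 r = sr i := by
    fin_cases i
    · exact ⟨7, by norm_num, FamG2.vec7⟩
    · exact ⟨6, by norm_num, FamG2.vec6⟩
  obtain ⟨r, hr, e⟩ := h1
  change 4 ≤ Nat.card (FamG2.X K (sr i))
  rw [← e, card_X hr]
  exact h4

end G2

/-! ### `³D₄(q)` -/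

namespace D4

open Cfsg.Agent.Nodes Cfsg.Agent.Nodes.RGDTwD4 Cfsg.Agent.Hexagon Cfsg.Agent.Nodes.RGDFold
open Cfsg.Agent.SplitTwo (HexPar HexRel)

variable {K : Type v} [Field K] [Fintype K] [CharP K 2] {q : ℕ} {φ : K →+* K}

theorem cube (hK : Fintype.card K = q ^ 3) (hφ : ∀ x, φ x = x ^ q) {σ : K ≃+* K} (hσ : ∀ x, σ x = φ x) (a : K) :
    σ (σ (σ a)) = a := by
  rw [hσ, hσ, hσ, hφ, hφ, hφ, ← pow_mul, ← pow_mul]
  have : q * (q * q) = q ^ 3 := by ring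
  rw [this, ← hK]
  exact FiniteField.pow_card a

theorem commGen (hK : Fintype.card K = q ^ 3) (hφ : ∀ x, φ x = x ^ q) :
    CommGen CoxeterMatrix.G₂.toCoxeterSystem RGDTwD4.isCartan (RGDTwD4.X φ q) := by
  let σ : K ≃+* K := RingEquiv.ofBijective φ ((Finite.injective_iff_bijective).1 φ.injective)
  have hσ : ∀ x, σ x = φ x := fun x => rfl
  have h3 := cube hK hφ hσ
  have hle := D4Fixed.twisted_le_fix hK hφ
  have P := TwD4Par.hexPar hφ hle hσ h3
  let cs := CoxeterMatrix.G₂.toCoxeterSystem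
  have hlt : ∀ r : ℕ, r < 24 → r < chevD4.nroots := fun r hr => hr
  have hle' : ∀ {z : Fin 2 → ℤ}, z ∈ RGD.Pos cs RGDTwD4.isCartan →
      RGDTwD4.X φ q z ≤ RGD.Sup (RGDTwD4.X φ q) (RGD.Pos cs RGDTwD4.isCartan) := fun hz => RGD.le_Sup hz
  have p0 : (sr 0 : Fin 2 → ℤ) ∈ RGD.Pos cs RGDTwD4.isCartan := ⟨isRoot_sr cs _ 0, sr_nonneg 0⟩
  have p1 : (sr 1 : Fin 2 → ℤ) ∈ RGD.Pos cs RGDTwD4.isCartan := ⟨isRoot_sr cs _ 1, sr_nonneg 1⟩
  have p5 : V chevD4 J 19 ∈ RGD.Pos cs RGDTwD4.isCartan :=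
    ⟨FamD4.isRoot_V cs (hlt 19 (by norm_num)), fun k => (FamD4.pos_tab k).1.le⟩
  have p3 : V chevD4 J 20 ∈ RGD.Pos cs RGDTwD4.isCartan :=
    ⟨FamD4.isRoot_V cs (hlt 20 (by norm_num)), fun k => (FamD4.pos_tab k).2.1.le⟩
  obtain ⟨B, hB⟩ := FamD4.exists_moved hK hφ
  obtain ⟨g2, g3, g4, g5⟩ := FamD4.hexGen P.rel (U := RGD.Sup (RGDTwD4.X φ q) (RGD.Pos cs RGDTwD4.isCartan))
    (fun a => hle' p1 (by rw [FamD4.X_sr1 hle, P.mem1]; exact ⟨a, rfl⟩))
    (fun a => hle' p3 (by rw [FamD4.X_20 hle, P.mem3]; exact ⟨a, rfl⟩))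
    (fun a => hle' p5 (by rw [FamD4.X_19 hle, P.mem5]; exact ⟨a, rfl⟩))
    (fun t ht => hle' p0 (by rw [FamD4.X_sr0 hle, P.mem6]; exact ⟨t, ht, rfl⟩)) ⟨B, hB⟩
  intro z hz h0 hs
  rcases FamD4.pos_cases cs hz h0 hs with rfl | rfl | rfl | rfl
  · rw [FamD4.X_19 hle]
    intro g hg
    obtain ⟨a, rfl⟩ := (P.mem5 g).1 hg
    exact g5 a
  · rw [FamD4.X_20 hle]
    intro g hg
    obtain ⟨a, rfl⟩ := (P.mem3 g).1 hg
    exact g3 a
  · rw [FamD4.X_22 hle]
    intro g hg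
    obtain ⟨t, ht, rfl⟩ := (P.mem2 g).1 hg
    exact g2 t ht
  · rw [FamD4.X_23 hle]
    intro g hg
    obtain ⟨t, ht, rfl⟩ := (P.mem4 g).1 hg
    exact g4 t ht

/-- the orders of the simple root groups -/
theorem card_X1 (hK : Fintype.card K = q ^ 3) (hφ : ∀ x, φ x = x ^ q) :
    Nat.card (RGDTwD4.X φ q (sr 1)) = q ^ 3 := by
  let σ : K ≃+* K := RingEquiv.ofBijective φ ((Finite.injective_iff_bijective).1 φ.injective)
  have hσ : ∀ x, σ x = φ x := fun x => rfl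
  have h3 := cube hK hφ hσ
  have hle := D4Fixed.twisted_le_fix hK hφ
  have P := TwD4Par.hexPar hφ hle hσ h3
  rw [FamD4.X_sr1 hle, ← hK, ← Nat.card_eq_fintype_card]
  refine (Nat.card_congr (Equiv.ofBijective (fun t : K => (⟨_, (P.mem1 _).2 ⟨t, rfl⟩⟩ :
    TwD4RGD.X K q 1)) ⟨fun a b hab => ?_, fun g => ?_⟩)).symm
  · exact P.inj1 _ _ (congrArg Subtype.val hab)
  · obtain ⟨t, ht⟩ := (P.mem1 _).1 g.2
    exact ⟨t, Subtype.ext ht⟩

/-- the node over the field of `q³` elements -/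
theorem node1 (hq : 2 ≤ q) (hK : Fintype.card K = q ^ 3) (hφ : ∀ x, φ x = x ^ q) :
    RGDTwD4.X φ q (sr 1) ≤ ⁅Li (RGDTwD4.X φ q) 1, Li (RGDTwD4.X φ q) 1⁆ := by
  let σ : K ≃+* K := RingEquiv.ofBijective φ ((Finite.injective_iff_bijective).1 φ.injective)
  have hσ : ∀ x, σ x = φ x := fun x => rfl
  have h3 := cube hK hφ hσ
  have b := FamD4.bd hK hφ hσ h3
  have := b.fin
  refine le_comm_node b.rgd b.ab ?_ (b.el 1)
  rw [card_X1 hK hφ]
  have := Nat.pow_le_pow_left hq 3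
  omega

/-- the node over the field of `q` elements -/
theorem node0 (hq : 4 ≤ q) (hK : Fintype.card K = q ^ 3) (hφ : ∀ x, φ x = x ^ q) :
    RGDTwD4.X φ q (sr 0) ≤ ⁅Li (RGDTwD4.X φ q) 0, Li (RGDTwD4.X φ q) 0⁆ := by
  let σ : K ≃+* K := RingEquiv.ofBijective φ ((Finite.injective_iff_bijective).1 φ.injective)
  have hσ : ∀ x, σ x = φ x := fun x => rfl
  have h3 := cube hK hφ hσ
  have hle := D4Fixed.twisted_le_fix hK hφ
  have P := TwD4Par.hexPar hφ hle hσ h3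
  have b := FamD4.bd hK hφ hσ h3
  have := b.fin
  refine le_comm_node b.rgd b.ab ?_ (b.el 0)
  rw [FamD4.X_sr0 hle]
  have hc := D4H1.card_fixed (by omega : 1 < q) hK hφ
  have hfin : Finite {b : Kˣ // φ b = b} := inferInstance
  have hfin2 : Finite (TwD4RGD.X K q 6) := inferInstance
  let f : Option {b : Kˣ // φ b = b} → TwD4RGD.X K q 6 := fun o =>
    match o with
    | none => ⟨_, (P.mem6 _).2 ⟨0, map_zero σ, rfl⟩⟩
    | some b => ⟨_, (P.mem6 _).2 ⟨(b.1 : K), b.2, rfl⟩⟩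
  have hf : Function.Injective f := by
    intro x y hxy
    have h1 := congrArg Subtype.val hxy
    match x, y with
    | none, none => rfl
    | none, some b => exact absurd (P.inj6 _ _ (map_zero σ) b.2 h1) b.1.ne_zero.symm
    | some b, none => exact absurd (P.inj6 _ _ b.2 (map_zero σ) h1) b.1.ne_zero
    | some b, some c =>
      have h2 := P.inj6 _ _ b.2 c.2 h1
      exact congrArg some (Subtype.ext (Units.ext h2))
  have h1 := Nat.card_le_card_of_injective f hf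
  rw [Finite.card_option, hc] at h1
  omega

end D4

/-- **`G₂(q)`, `q ≥ 4` even.** -/
theorem dt_G2 {F : Type v} [Field F] [Finite F] [CharP F 2] (h4 : 4 ≤ Nat.card F) :
    HasDt CoxeterMatrix.G₂ (fun _ => True) ↥(chevG2.group F) := by
  have b := FamChev.bd FamG2.isType (K := F)
  have ht : ∃ t : F, t ≠ 0 ∧ t ≠ 1 := by
    have := Fintype.ofFinite F
    rw [Nat.card_eq_fintype_card] at h4
    exact FamG2.exists_ne_of_card (by omega)
  exact ⟨_, _, _, _, _,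
    { fin := b.fin
      rgd := b.rgd
      gen := b.gen
      comm := G2.commGen ht
      perf := fun i _ => G2.node h4 i }⟩

/-- **`³D₄(q)`, `q ≥ 4` even.** -/
theorem dt_D4 {K : Type v} [Field K] [Fintype K] [CharP K 2] {q : ℕ} (hq : IsPrimePow q)
    (hK : Fintype.card K = q ^ 3) (h4 : 4 ≤ q) : HasDt CoxeterMatrix.G₂ (fun _ => True) ↥(twistedD4 K q) := by
  obtain ⟨φ, hφ⟩ := D4Fixed.exists_frob hq hK
  let σ : K ≃+* K := RingEquiv.ofBijective φ ((Finite.injective_iff_bijective).1 φ.injective)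
  have hσ : ∀ x, σ x = φ x := fun x => rfl
  have b := FamD4.bd hK hφ hσ (D4.cube hK hφ hσ)
  refine ⟨_, _, _, _, _,
    { fin := b.fin
      rgd := b.rgd
      gen := b.gen
      comm := D4.commGen hK hφ
      perf := fun i _ => ?_ }⟩
  fin_cases i
  · exact D4.node0 h4 hK hφ
  · exact D4.node1 (by omega) hK hφ

/-- `³D₄(q)`, `q` even: the node over the field of `q³` elements is perfect. -/
theorem dt_D4' {K : Type v} [Field K] [Fintype K] [CharP K 2] {q : ℕ} (hq : IsPrimePow q)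
    (hK : Fintype.card K = q ^ 3) : HasDt CoxeterMatrix.G₂ (fun i => i = 1) ↥(twistedD4 K q) := by
  obtain ⟨φ, hφ⟩ := D4Fixed.exists_frob hq hK
  let σ : K ≃+* K := RingEquiv.ofBijective φ ((Finite.injective_iff_bijective).1 φ.injective)
  have hσ : ∀ x, σ x = φ x := fun x => rfl
  have b := FamD4.bd hK hφ hσ (D4.cube hK hφ hσ)
  refine ⟨_, _, _, _, _,
    { fin := b.fin
      rgd := b.rgd
      gen := b.gen
      comm := D4.commGen hK hφ
      perf := fun i hi => ?_ }⟩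
  subst hi
  exact D4.node1 hq.one_lt hK hφ

end Cfsg.Agent.Omega.ML.Ex.Lie2.DataG
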