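import Cfsg.Agent.Omega.ML.Ex.Lie2.Def
import Cfsg.Agent.Omega.ML.Ex.WallX
import Cfsg.Agent.Omega.ML.Ex.WallSig
import Cfsg.Agent.Omega.ML.Ex.Typ.FrameR

/-!
# The WALL THEOREM over root group data (helper721)

* `good_transfer` : `WallGood.Good` does not depend on the Coxeter system of the matrix;
* `frameN` : `Typ.frameR` with `δ c0 (n i • c0) = s_i`;
* `card_pan` : `|X (α_i)|` is the number of chambers `y` with `δ c0 y = s_i`;
* **`wallT`** : the socket `WallT` of `Lie2/Def.lean`.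
-/

set_option autoImplicit false
set_option linter.unusedSectionVars false

namespace Cfsg.Agent.Omega.ML.Ex.Lie2

open Subgroup CoxeterSystem Cfsg.Agent.ChevalleyStructure.CoxeterGeom Cfsg.Agent.Tits.Roots Cfsg.Agent.Tits.Core
  Cfsg.Agent.Tits.Core.Bldg
  Cfsg.Agent.Tits.RootComb Cfsg.Agent.Nodes.Comb Cfsg.Agent.Nodes.Reps Cfsg.Agent.Nodes.BNOf Cfsg.Agent.FixBN
  Cfsg.Agent.Omega.ML.LieRow Cfsg.Agent.Tits.OfBN Cfsg.Agent.LieExceptional.BNPairCore

universe u v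

section transfer

variable {I W W' : Type*} [Group W] [Group W'] {M : CoxeterMatrix I}

theorem WJ_transfer {cs : CoxeterSystem M W} {cs' : CoxeterSystem M W'} (e : W ≃* W')
    (he : ∀ i, e (cs.simple i) = cs'.simple i) {J : Set I} {w : W} (hw : w ∈ WJ cs J) : e w ∈ WJ cs' J := by
  have h1 : WJ cs J ≤ (WJ cs' J).comap e.toMonoidHom := by
    unfold WJ
    rw [Subgroup.closure_le]
    rintro _ ⟨i, hi, rfl⟩
    change e (cs.simple i) ∈ Subgroup.closure (cs'.simple '' J)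
    rw [he]
    exact Subgroup.subset_closure ⟨i, hi, rfl⟩
  exact h1 hw

/-- `Good` does not depend on the Coxeter system. -/
theorem good_transfer (cs : CoxeterSystem M W) (cs' : CoxeterSystem M W') {J : Set I} {LL : Set I → Prop} {i : I}
    (h : WallGood.Good cs J LL i) : WallGood.Good cs' J LL i := by
  obtain ⟨e, he⟩ : ∃ e : W ≃* W', ∀ i, e (cs.simple i) = cs'.simple i := by
    exact ⟨cs.mulEquiv.trans cs'.mulEquiv.symm, fun i =>
      congrArg cs'.mulEquiv.symm (cs.mulEquiv.apply_symm_apply (PresentedGroup.of i : M.Group))⟩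
  have he' : ∀ i, e.symm (cs'.simple i) = cs.simple i := fun i => by rw [← he, MulEquiv.symm_apply_apply]
  intro w hw j hj
  obtain ⟨v, hv, L, hL, l, hl, k, hk, h1⟩ := h (e.symm w) (WJ_transfer e.symm he' hw) j hj
  refine ⟨e v, WJ_transfer e he hv, L, hL, e l, WJ_transfer e he hl, k, hk, ?_⟩
  have h2 := congrArg e h1
  simp only [map_mul, map_inv, he, MulEquiv.apply_symm_apply] at h2
  exact h2

end transfer

section frame

variable {I W : Type*} [Fintype I] [DecidableEq I] [Group W] {M : CoxeterMatrix I}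
  {cs : CoxeterSystem M W} {A : I → I → ℤ} {h : IsCartan M A}

/-- **The building frame of a root group datum**, with the positions of the `n i`. -/
theorem frameN [Finite W] [Nonempty I] {H : Type u} [Group H] [Finite H] {K : Subgroup H} (hK : K.Normal)
    [IsSimpleGroup K] {Tor : Subgroup K} {n : I → K} {X : (I → ℤ) → Subgroup K} (R : RGD cs h 2 Tor n X)
    (hG1 : Nodes.RGDLib.G1 cs h X = ⊤) :
    ∃ (F : Typ.Frame K M), letI := F.gW; letI := F.act; ∃ c0 : F.C, F.S.U c0 = RGD.Sup X (RGD.Pos cs h) ∧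
      (∀ i, F.Δ.δ c0 (n i • c0) = F.cs.simple i) ∧
      ∀ P : Subgroup K, RGD.Sup X (RGD.Pos cs h) ≤ P → ∀ i, i ∈ tp F.Δ P c0 ↔ X (-sr i) ≤ P := by
  have : Fact (Nat.Prime 2) := ⟨Nat.prime_two⟩
  have hgen : RGD.B cs h Tor X ⊔ NN cs R.nsys = ⊤ := by
    rw [eq_top_iff, ← hG1]
    exact Nodes.RGDLib.rgd_G1_le R
  obtain ⟨i₀⟩ := (inferInstance : Nonempty I)
  have hne : (R.bnPair hgen).S.Nonempty := ⟨n i₀, i₀, rfl⟩
  have hP := SplitRGD.split_of_rgd Nat.prime_two R hgen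
    (Cfsg.Agent.Tits.OfBN.normalCore_eq_bot (R.bnPair hgen) hne)
  obtain ⟨e, hen, hN, cs', hcs⟩ : ∃ e : I ≃ (R.bnPair hgen).S, (∀ i, (e i : K) = n i) ∧ BNType (R.bnPair hgen) M e :=
    ⟨Equiv.ofInjective n R.n_injective, fun _ => rfl, Typ.bnType R hgen⟩
  have hth := thick (R.bnPair hgen) e cs' hcs
  obtain ⟨A'⟩ := exists_hact (OfBN.sys e cs' hcs hP) hth (fun τ => UGT.U2.FOne.exists_mv hP e cs' hcs τ)
  have key : ∀ g : K, (bldg (R.bnPair hgen) e cs' hcs).δ (QuotientGroup.mk 1) (g • QuotientGroup.mk 1) =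
      wt (R.bnPair hgen) g := by
    intro g
    have h1 : g • (QuotientGroup.mk 1 : K ⧸ (R.bnPair hgen).B) = QuotientGroup.mk (g * 1) := rfl
    rw [h1, bldg_δ_mk, inv_one, one_mul, mul_one]
  refine ⟨⟨WP (R.bnPair hgen), inferInstance, cs', K ⧸ (R.bnPair hgen).B, inferInstance, _,
    OfBN.sys e cs' hcs hP, A', hth, inferInstance, ⟨QuotientGroup.mk 1⟩, inferInstance⟩, QuotientGroup.mk 1, ?_, ?_, ?_⟩
  · ext x
    change x ∈ OfBN.UU (R.bnPair hgen) _ (QuotientGroup.mk 1) ↔ _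
    rw [OfBN.mem_UU hP]
    have h1 : (1 : K)⁻¹ * x * 1 = x := by group
    rw [h1]
  · intro i
    refine (key (n i)).trans ?_
    change _ = cs'.simple i
    rw [hcs]
    exact wt_of_mem _ (mem_C.2 ⟨1, one_mem _, 1, one_mem _, by rw [hen i]; group⟩)
  · intro P hUP i
    rw [Typ.neg_le_iff R hUP i]
    constructor
    · rintro ⟨g, hg, hgi⟩
      refine ⟨g, hg, ?_⟩
      have h1 : wt (R.bnPair hgen) g = cs'.simple i := (key g).symm.trans hgi
      rw [hcs] at h1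
      obtain ⟨b, hb, b', hb', h2⟩ := mem_C.1 (mem_C_of_wt _ h1)
      exact ⟨b, hb, b', hb', by rw [← hen i]; exact h2⟩
    · rintro ⟨g, hg, b, hb, b', hb', e1⟩
      refine ⟨g, hg, ?_⟩
      have h1 : wt (R.bnPair hgen) g = cs'.simple i := by
        rw [hcs]
        exact wt_of_mem _ (mem_C.2 ⟨b, hb, b', hb', by rw [hen i]; exact e1⟩)
      exact (key g).trans h1

variable {K : Type*} [Group K] {W' : Type*} [Group W'] {cs' : CoxeterSystem M W'} {C : Type*} {Δ : Bldg cs' C}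
  [MulAction K C] (S : Sys Δ K 2) {Tor : Subgroup K} {n : I → K} {X : (I → ℤ) → Subgroup K}
  [Cfsg.Agent.Tits.OppRes.Cox cs']

theorem exists_mul_of_mem_sup {Y : Type*} [Group Y] {P Q : Subgroup Y} (hPQ : P ≤ Subgroup.normalizer (Q : Set Y))
    {x : Y} (hx : x ∈ P ⊔ Q) : ∃ a ∈ P, ∃ b ∈ Q, x = a * b := by
  refine Subgroup.closure_induction (p := fun x _ => ∃ a ∈ P, ∃ b ∈ Q, x = a * b) ?_ ?_ ?_ ?_
    (Subgroup.sup_eq_closure P Q ▸ hx)
  · rintro x (h1 | h1)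
    · exact ⟨x, h1, 1, one_mem _, (mul_one x).symm⟩
    · exact ⟨1, one_mem _, x, h1, (one_mul x).symm⟩
  · exact ⟨1, one_mem _, 1, one_mem _, (mul_one 1).symm⟩
  · rintro _ _ - - ⟨a, ha, b, hb, rfl⟩ ⟨a', ha', b', hb', rfl⟩
    refine ⟨a * a', mul_mem ha ha', (a'⁻¹ * b * a') * b', mul_mem ?_ hb', by group⟩
    have h1 := (Subgroup.mem_normalizer_iff.1 (hPQ (inv_mem ha')) b).1 hb
    rwa [inv_inv] at h1
  · rintro _ - ⟨a, ha, b, hb, rfl⟩
    refine ⟨a⁻¹, inv_mem ha, a * b⁻¹ * a⁻¹, ?_, by group⟩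
    exact (Subgroup.mem_normalizer_iff.1 (hPQ ha) b⁻¹).1 (inv_mem hb)

/-- `X (-α_i) ⊓ U = 1` -/
theorem neg_inf [Finite W] (R : RGD cs h 2 Tor n X) {i : I} {x : K} (hx : x ∈ X (-sr i))
    (hxU : x ∈ RGD.Sup X (RGD.Pos cs h)) : x = 1 := by
  by_contra hx1
  obtain ⟨a, ha, t, ht, b, hb, e⟩ := R.rk1 i x hx hx1
  have h1 : n i ∈ RGD.B cs h Tor X := by
    have h2 : n i = t⁻¹ * (a⁻¹ * x * b⁻¹) := by rw [e]; group
    rw [h2]
    refine mul_mem (inv_mem (RGD.T_le_B ht)) (mul_mem (mul_mem ?_ (RGD.U_le_B hxU)) ?_)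
    · exact inv_mem (RGD.X_le_B (isRoot_sr cs h i) (sr_nonneg i) ha)
    · exact inv_mem (RGD.X_le_B (isRoot_sr cs h i) (sr_nonneg i) hb)
  have h2 := R.eq_one_of_mem_B (rp_simple cs R.nsys i) h1
  have h3 := orderOf_eq_one_iff.2 h2
  have h4 : (cs.simple i) ≠ 1 := by
    intro h5
    have h6 := cs.length_simple i
    rw [h5, cs.length_one] at h6
    omega
  exact h4 h2

include S in
/-- the number of chambers of a panel -/
theorem card_pan [Finite W] (R : RGD cs h 2 Tor n X) {c : C} (hU : S.U c = RGD.Sup X (RGD.Pos cs h))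
    (hn : ∀ i, Δ.δ c (n i • c) = cs'.simple i) (i : I) :
    Nat.card (X (sr i)) = Nat.card {y : C // Δ.δ c y = cs'.simple i} := by
  have hXU : X (sr i) ≤ S.U c := by
    rw [hU]
    exact RGD.le_Sup (S := RGD.Pos cs h) ⟨isRoot_sr cs h i, sr_nonneg i⟩
  refine Nat.card_congr (Equiv.ofBijective (fun x => ⟨(x : K) • (n i • c), ?_⟩) ⟨?_, ?_⟩)
  · have h1 : Δ.δ ((x : K) • c) ((x : K) • (n i • c)) = cs'.simple i := by rw [S.iso, hn]
    rwa [S.fix c _ (hXU x.2)] at h1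
  · rintro ⟨x, hx⟩ ⟨y, hy⟩ hxy
    have h1 : x • (n i • c) = y • (n i • c) := congrArg Subtype.val hxy
    have h2 : (y⁻¹ * x) • (n i • c) = n i • c := by rw [mul_smul, h1, inv_smul_smul]
    have hz : y⁻¹ * x ∈ X (sr i) := mul_mem (inv_mem hy) hx
    have h3 := S.mem_U_of_fix (hXU hz) h2
    have h4 : n i * ((n i)⁻¹ * (y⁻¹ * x) * n i) * (n i)⁻¹ ∈ S.U (n i • c) := by
      have e : n i * ((n i)⁻¹ * (y⁻¹ * x) * n i) * (n i)⁻¹ = y⁻¹ * x := by group
      rwa [e]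
    have h5 := S.conj_mem_U_iff.1 h4
    rw [hU] at h5
    have h6 : (n i)⁻¹ * (y⁻¹ * x) * n i ∈ X (-sr i) := by
      have := R.conj_mem' (rp_simple cs R.nsys i) (isRoot_sr cs h i) hz
      rwa [inv_simple, rep_simple_sr] at this
    have h7 := neg_inf R h6 h5
    apply Subtype.ext
    have h8 : y⁻¹ * x = 1 := by
      have e : y⁻¹ * x = n i * ((n i)⁻¹ * (y⁻¹ * x) * n i) * (n i)⁻¹ := by group
      rw [e, h7, mul_one, mul_inv_cancel]
    exact (inv_mul_eq_one.1 h8).symm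
  · rintro ⟨y, hy⟩
    obtain ⟨u, hu, huy⟩ := S.exists_move ((hn i).trans hy.symm)
    rw [hU, R.Upos_eq i] at hu
    obtain ⟨x, hx, v, hv, rfl⟩ := exists_mul_of_mem_sup (R.X_le_normalizer_V i) hu
    refine ⟨⟨x, hx⟩, Subtype.ext ?_⟩
    change x • (n i • c) = y
    rw [← huy, mul_smul]
    congr 1
    -- `v` fixes `n i • c`
    have h1 : (n i)⁻¹ * v * n i ∈ RGD.Sup X (RGD.PosNe cs h i) := by
      have h2 := R.cj_n_V i
      rw [← h2] at hv
      obtain ⟨w, hw, rfl⟩ := hv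
      have e : (n i)⁻¹ * ((MulAut.conj (n i)).toMonoidHom w) * n i = w := by
        change (n i)⁻¹ * (n i * w * (n i)⁻¹) * n i = w
        group
      rw [e]
      exact hw
    have h2 : (n i)⁻¹ * v * n i ∈ S.U c := by
      rw [hU, R.Upos_eq i]
      exact (le_sup_right : _ ≤ X (sr i) ⊔ RGD.Sup X (RGD.PosNe cs h i)) h1
    have h3 := S.fix c _ h2
    have h4 : n i • (((n i)⁻¹ * v * n i) • c) = v • (n i • c) := by
      rw [← mul_smul, ← mul_smul]
      congr 1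
      group
    rw [← h4, h3]

end frame

/-- **The WALL THEOREM, socket of `Lie2/Def.lean`.** -/
theorem wallT : WallT.{u, v} := by
  intro X _ _ M _ _ _ K T B m l Mx Ac h Tor n Xr hl hI hL hR
  have hKn := hI.norm
  have hKs := hI.simple
  have hfin : Finite Mx.Group := hR.fin
  have hne : Nonempty (Fin l) := ⟨⟨0, hl⟩⟩
  obtain ⟨F, hF⟩ := frameN hKn hR.rgd hR.gen
  obtain ⟨W, gW, cs, C, act, Δ, S, A, hth, hfC, hnC, hfW⟩ := F
  obtain ⟨c, hU, hn, htp⟩ := hF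
  change S.U c = _ at hU
  change ∀ i, Δ.δ c (n i • c) = cs.simple i at hn
  change ∀ P : Subgroup K, _ → ∀ i, i ∈ tp Δ P c ↔ _ at htp
  have hUT : S.U c = T.subgroupOf K := hU.trans hR.syl
  have hc : ∀ t ∈ T, A.θ t c = c := by
    obtain ⟨c', hc', hUc'⟩ := exists_chamber A S hth hI.two hI.syl
    have h3 : c' = c := UGT.U2.FOne.U_inj S hth (hUc'.trans hUT.symm)
    rw [← h3]
    exact hc'
  have hJm : tp Δ ((MulAction.stabilizer X m).subgroupOf K) c = Jm Xr m := by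
    ext i
    rw [htp _ ?_ i]
    · exact Iff.rfl
    · rw [hR.syl]
      exact fun x hx => hL.fix x hx
  obtain ⟨hJ, -, i, hi, hk, hb⟩ := Wall.movers A S hI hL hth hc hUT
  have htr := Wall.not_trans_of_nmax A S hth hc hUT hI.gen hI.nmax
  rw [hJm] at hJ hi hk hb
  refine ⟨A.σ, ⟨A.σ_one, A.σ_mul, WallSig.sig_M A, ?_, ?_⟩, fun t _ j hj => hJ t j hj, i, hi, hk,
    fun hg => hb i hi ?_⟩
  · -- the cardinalities
    intro g j
    obtain ⟨k, t, ht, rfl⟩ := exists_kt A S hI.gen g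
    rw [A.σ_mul, A.σ_K S, card_pan S hR.rgd hU hn, card_pan S hR.rgd hU hn]
    symm
    refine Nat.card_congr (Equiv.ofBijective (fun y => ⟨A.θ t y, ?_⟩) ⟨?_, ?_⟩)
    · have h1 := A.δ_θ t c y
      rw [hc t ht, y.2, A.φ_simple] at h1
      exact h1
    · rintro ⟨y, hy⟩ ⟨z, hz⟩ hyz
      exact Subtype.ext (A.θ_inj t (congrArg Subtype.val hyz))
    · rintro ⟨y, hy⟩
      refine ⟨⟨A.θ t⁻¹ y, ?_⟩, Subtype.ext (A.θ_θ_inv t y)⟩
      have h1 := A.δ_θ t⁻¹ c y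
      rw [hc _ (inv_mem ht), hy, A.φ_simple, A.σ_inv_σ] at h1
      exact h1
  · -- a proper invariant set
    obtain ⟨L, hL1, hL2, hL3⟩ := Wall.exists_orbit A S hI.gen htr ⟨0, hl⟩
    exact ⟨L, ⟨_, hL3⟩, hL2, fun t _ i hi => hL1 t i hi⟩
  · have hg' := good_transfer Mx.toCoxeterSystem cs hg
    intro v hv j hj
    obtain ⟨a, ha, L, ⟨hLu, hL'⟩, l', hl', k, hk', e⟩ := hg' v hv j hj
    refine ⟨L, inv_of_T A S hI.gen hL', hLu, a, ha, l', hl', k, hk', ?_⟩
    rw [e]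
    group

end Cfsg.Agent.Omega.ML.Ex.Lie2
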