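import Cfsg.Agent.Omega.ML.Ex.Lie2.Main
import Cfsg.Agent.Omega.FOne.Lift.FFourX

/-!
# The Lie(2) row: the leaf `F₄(2)` (helper993; the row is helper115's)
-/

set_option autoImplicit false

namespace Cfsg.Agent.Omega.ML.Ex.Lie2

open Cfsg
open Subgroup CoxeterSystem Cfsg.Agent.ChevalleyStructure.CoxeterGeom Cfsg.Agent.Tits.Roots Cfsg.Agent.Tits.Core
open Cfsg.Agent.Omega.FOne.Lift

universe u v w

/-- **`F₄(2)`, the middle nodes fix `m`.** -/
theorem f42 : FFourTwo.{u, v, w} := by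
  intro X _ _ M _ _ _ W _ _ _ K T A p m hI hw hL ⟨F, _, _, _, hF, ⟨f⟩⟩ hJ
  obtain ⟨e, Tt, n, Xr, R, S, hG, hU⟩ := FFour.exists_sys hI.norm hI.two hI.syl f
  have h2 : ∀ t : F, t = 0 ∨ t = 1 := by
    intro t
    by_contra hcon
    push Not at hcon
    classical
    have h3 : ({0, 1, t} : Finset F).card ≤ Fintype.card F := Finset.card_le_univ _
    rw [Finset.card_eq_three.2 ⟨0, 1, t, zero_ne_one, hcon.1.symm, hcon.2.symm, rfl⟩, hF] at h3
    omega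
  have hR : RF K T FFour.hcF Tt n Xr := ⟨⟨FFour.finite_F4, R, hG⟩, hU⟩
  have h3 := hJ _ _ _ _ _ hR
  refine FFour.row hI hw S h2 hG hU hL.fix fun i => ?_
  have h4 : i ∈ Jm Xr m ↔ i = 1 ∨ i = 2 := by rw [h3]; exact Iff.rfl
  exact h4

end Cfsg.Agent.Omega.ML.Ex.Lie2
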