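import Cfsg.Agent.Omega.ML.Ex.Lie2.Def
import Cfsg.Agent.Omega.ML.Ex.Typ.FrameR
import Cfsg.Agent.Omega.ML.Ex.Wall
import Cfsg.Agent.Omega.ML.LieRow.SzSplit
import Cfsg.Agent.S0320

/-!
# `T` is not transitive on the nodes: the corollaries (helper218)

Over `InX X M K T A` (only the field `nmax` matters, (LA) and the W-part are not used):

* `not_trans`, `two` : for a building frame `F` of `K`, `T` is not transitive on the nodes; there is a nonempty proper
  `T`-invariant set of nodes;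
* `false_of_subsingleton` : `K` has no building frame of rank one;
* **`false_of_rgd_one`, `false_of_rf_one`** : `K` has no root group datum of rank one (`L_2(q)`, `U_3(q)`, ...);
* **`deadX_suz`, `deadXL_suz`** : the row of the Suzuki groups;
* `two_le` : the rank is at least two;  `fix_of_two` : rank two: `T` fixes both nodes (so `B_2`, `G_2` with a graph automorphism are out).
-/

set_option autoImplicit false
set_option linter.unusedSectionVars false

namespace Cfsg.Agent.Omega.ML.Ex.Lie2.RankOne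

open Subgroup Cfsg Cfsg.Agent.Omega.ML.Ex
open Cfsg.Agent.Tits.Core Cfsg.Agent.Tits.Exchange Cfsg.Agent.Tits.OfBN Cfsg.Agent.Schreier.BNSch
open Cfsg.Agent.FixBN Cfsg.Agent.FixBN.Cox Cfsg.Agent.Omega.ML.LieRow

universe u v w

section frame

variable {X : Type u} [Group X] [Finite X] {M : Type v} [Group M] [MulDistribMulAction X M] {K T A : Subgroup X}

/-- **`T` is not transitive on the nodes.** -/
theorem not_trans (h : InX X M K T A) {I : Type*} [Finite I] [Nonempty I] {Mx : CoxeterMatrix I} (F : Typ.Frame K Mx) :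
    letI := F.gW; letI := F.act; ¬ ∀ i j : I, ∃ t ∈ T, F.A.σ t i = j := by
  have hKn := h.norm
  have hKs := h.simple
  obtain ⟨W, gW, cs, C, act, Δ, S, B, hth, hfC, hnC, hfW⟩ := F
  obtain ⟨c, hc, hUc⟩ := exists_chamber B S hth h.two h.syl
  exact Wall.not_trans_of_nmax B S hth hc hUc h.gen h.nmax

/-- a nonempty proper invariant set of nodes -/
theorem two (h : InX X M K T A) {I : Type*} [Finite I] [Nonempty I] {Mx : CoxeterMatrix I} (F : Typ.Frame K Mx) :
    letI := F.gW; letI := F.act; ∃ L : Set I, L.Nonempty ∧ L ≠ Set.univ ∧ F.A.Inv L := by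
  have hKn := h.norm
  have hKs := h.simple
  have h1 := not_trans h F
  obtain ⟨W, gW, cs, C, act, Δ, S, B, hth, hfC, hnC, hfW⟩ := F
  obtain ⟨i₀⟩ := (inferInstance : Nonempty I)
  obtain ⟨L, h2, h3, h4⟩ := Wall.exists_orbit B S h.gen h1 i₀
  exact ⟨L, ⟨i₀, h4⟩, h3, h2⟩

/-- **Rank one, for frames.** -/
theorem false_of_subsingleton (h : InX X M K T A) {I : Type*} [Subsingleton I] [Nonempty I] {Mx : CoxeterMatrix I}
    (F : Typ.Frame K Mx) : False :=
  not_trans h F fun _ _ => ⟨1, one_mem _, Subsingleton.elim _ _⟩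

/-- rank one, for (B,N)-pairs -/
theorem false_of_split (h : InX X M K T A) {P : Cfsg.BNPair K} {U : Subgroup K} (hne : P.S.Nonempty)
    (hs : P.S.Subsingleton) (hP : Split P 2 U) : False := by
  have : Fact (Nat.Prime 2) := ⟨Nat.prime_two⟩
  have hKs := h.simple
  have hN : ((P.B ⊓ P.N).subgroupOf P.N).Normal := normal_subgroupOf P
  obtain ⟨Mx, cs, hcs⟩ := S0320.result P
  have hIn : Nonempty P.S := hne.to_subtype
  have hIs : Subsingleton P.S := ⟨fun a b => Subtype.ext (hs a.2 b.2)⟩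
  have h1 : Typ.HasSplitT 2 Mx K := ⟨P, U, Equiv.refl _, hP, hN, cs, hcs⟩
  obtain ⟨F⟩ := h1.frame h.norm
  exact false_of_subsingleton h F

/-- **Rank one, for root group data.** -/
theorem false_of_rgd_one (h : InX X M K T A) {Mx : CoxeterMatrix (Fin 1)} (hK : Typ.HasRGDT 2 Mx K) : False := by
  obtain ⟨F⟩ := hK.frame h.norm h.simple one_pos
  exact false_of_subsingleton h F

end frame

/-- the row of the simple groups with a root group datum of rank one -/
theorem deadX_rgd_one : DeadX.{u, v} fun S _ => ∃ Mx : CoxeterMatrix (Fin 1), Typ.HasRGDT 2 Mx S :=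
  fun _ _ _ _ _ _ _ _ _ _ h ⟨_, hK⟩ => false_of_rgd_one h hK

/-- **The row of the Suzuki groups.** -/
theorem deadX_suz : DeadX.{u, v} fun S _ => Lie.IsoSuzuki S := by
  intro X _ _ M _ _ _ K T A h hK
  obtain ⟨F, i1, i2, m, hm, hF, ⟨e⟩⟩ := hK
  have H := LieRecognition.SzMatrix.good hF
  have hs : IsSimpleGroup ↥(Cfsg.Lie.Sz F (2 ^ (m + 1))) := Cfsg.Agent.S1162.result hm hF
  have h1 := SzSplit.split hm hF H hs
  refine false_of_split h (P := Transport.mapBN e.symm (SzSplit.bnPair H)) ⟨e.symm H.w, H.w, rfl, rfl⟩ ?_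
    (Transport.split e.symm _ h1)
  rintro _ ⟨x, hx, rfl⟩ _ ⟨y, hy, rfl⟩
  have hx' : x = H.w := hx
  have hy' : y = H.w := hy
  rw [hx', hy']

/-- a row without the W-part and (LA) -/
theorem xl {𝒮 : ∀ (S : Type u) [Group S], Prop}
    (h : DeadX.{u, v} 𝒮) : DeadXL.{u, v, w} 𝒮 :=
  fun X _ _ M _ _ _ _ _ _ _ K T A _ _ hI _ _ hS => h X M K T A hI hS

theorem deadXL_suz : DeadXL.{u, v, w} fun S _ => Lie.IsoSuzuki S := xl deadX_suz

section rf

variable {X : Type u} [Group X] [Finite X] {M : Type v} [Group M] [MulDistribMulAction X M] {K T A : Subgroup X}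
  {l : ℕ} {Mx : CoxeterMatrix (Fin l)} {Ac : Fin l → Fin l → ℤ}
  {h : Cfsg.Agent.ChevalleyStructure.CoxeterGeom.IsCartan Mx Ac} {Tor : Subgroup K}
  {n : Fin l → K} {Xr : (Fin l → ℤ) → Subgroup K}

theorem hasRGDT {Y : Type*} [Group Y] {Tor : Subgroup Y} {n : Fin l → Y} {Xr : (Fin l → ℤ) → Subgroup Y}
    (hR : Rg h Tor n Xr) : Typ.HasRGDT 2 Mx Y := ⟨Ac, h, Tor, n, Xr, hR.fin, hR.rgd, hR.gen⟩

/-- **the rank is at least two** -/
theorem two_le (hI : InX X M K T A) (hl : 0 < l) (hR : RF K T h Tor n Xr) : 2 ≤ l := by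
  by_contra h1
  obtain rfl : l = 1 := by omega
  exact false_of_rgd_one hI (hasRGDT hR.toRg)

/-- rank two: both nodes are fixed -/
theorem fix_of_two (hl : l = 2) {σ : X → Fin l → Fin l} (hs : Sg T Mx Xr σ) : ∀ t ∈ T, ∀ i, σ t i = i := by
  subst hl
  obtain ⟨L, ⟨i, hi⟩, hLu, hL⟩ := hs.two
  have hinj : ∀ t, Function.Injective (σ t) := by
    intro t a b hab
    have h1 := congrArg (σ t⁻¹) hab
    rwa [← hs.mul, ← hs.mul, inv_mul_cancel, hs.one, hs.one] at h1
  have h2 : ∀ j, j ≠ i → j ∉ L := by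
    intro j hj hjL
    apply hLu
    rw [Set.eq_univ_iff_forall]
    intro k
    rcases eq_or_ne k i with rfl | hk
    · exact hi
    · have : k = j := by omega
      rwa [this]
  have h3 : ∀ t ∈ T, σ t i = i := by
    intro t ht
    by_contra h4
    exact h2 _ h4 (hL t ht i hi)
  intro t ht j
  rcases eq_or_ne j i with rfl | hj
  · exact h3 t ht
  · have h4 : σ t j ≠ i := by
      intro h5
      exact hj (hinj t (h5.trans (h3 t ht).symm))
    omega

end rf

end Cfsg.Agent.Omega.ML.Ex.Lie2.RankOne
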