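import Cfsg.Agent.Omega.ML.Ex.Lie2.Rc
import Cfsg.Agent.Omega.ML.Ex.Lie2.DataB

/-!
# `PSU₄(2)` and `PSU₅(2)` (helper72)

* `inv2_le_two` : at most one involution, at most two elements with `u * u = 1`;
* `dt_rg` : the data of a Witt model, all nodes except the last one perfect;
* **`di_PSU_even`, `di_PSU_odd`** : `PSU_N(2)`, at most two elements with `u * u = 1` in the last root group;
* **`di_PSU45`** : the leaf `psu2`.
-/

set_option autoImplicit false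
set_option linter.unusedSectionVars false

namespace Cfsg.Agent.Omega.ML.Ex.Lie2

open Cfsg
open Subgroup CoxeterSystem Cfsg.Agent.ChevalleyStructure.CoxeterGeom Cfsg.Agent.Tits.Roots Cfsg.Agent.Tits.Core
  Cfsg.Agent.Nodes.Comb Cfsg.Agent.Nodes.Reps Cfsg.Agent.Nodes.BNOf
open Cfsg.Agent.Nodes Cfsg.Agent.Nodes.WittAll Cfsg.Agent.Nodes.WittU Cfsg.Agent.Nodes.WittRoot
  Cfsg.Agent.TitsThree Cfsg.Agent.TitsThree.Siegel Cfsg.Agent.TitsThree.SiegelGen
  Cfsg.Agent.TitsThree.WittFrame Cfsg.Agent.TitsThree.WBridge Cfsg.Agent.TitsThree.FrameCN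
  Cfsg.Agent.Omega.EH3.Kf
open Cfsg.Agent.LieClassical.HermBasic Cfsg.Agent.TitsThree.KSideU

universe u

/-- at most one involution, at most two elements of order at most two -/
theorem card_inv_le {G : Type*} [Group G] {S : Subgroup G}
    (h : ∃ z : G, ∀ u ∈ S, u * u = 1 → u = 1 ∨ u = z) : Nat.card {u : G // u ∈ S ∧ u * u = 1} ≤ 2 := by
  obtain ⟨z, hz⟩ := h
  have h1 : Set.Finite {u : G | u = 1 ∨ u = z} := (Set.finite_singleton z).insert 1
  have h2 : Nat.card {u : G | u = 1 ∨ u = z} ≤ 2 := by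
    have h3 : {u : G | u = 1 ∨ u = z} = ({1, z} : Set G) := rfl
    rw [h3, Nat.card_coe_set_eq]
    exact Set.ncard_insert_le 1 {z} |>.trans (by rw [Set.ncard_singleton])
  refine le_trans ?_ h2
  have := h1.to_subtype
  exact Nat.card_le_card_of_injective (fun u : {u : G // u ∈ S ∧ u * u = 1} =>
    (⟨u.1, hz u.1 u.2.1 u.2.2⟩ : {u : G | u = 1 ∨ u = z})) fun x y e => Subtype.ext (congrArg (fun z => z.1) e)

theorem inv2_le_two {G : Type*} [Group G] {S : Subgroup G}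
    (h : ∃ z : G, ∀ u ∈ S, u * u = 1 → u = 1 ∨ u = z) : inv2 S ≤ 2 := card_inv_le h

/-- the datum for `T`, at most two elements with `u * u = 1` -/
theorem HasInv.exists_rf' {X : Type u} [Group X] [Finite X] {K T : Subgroup X} {l : ℕ} {Mx : CoxeterMatrix (Fin l)}
    {i : Fin l} {r : ℕ} (hK : K.Normal) (hT : IsPGroup 2 T) (hTi : ¬ 2 ∣ T.index)
    (hD : HasInv Mx i r K) : ∃ (Ac : Fin l → Fin l → ℤ) (h : IsCartan Mx Ac) (Tor : Subgroup K) (n : Fin l → K)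
      (Xr : (Fin l → ℤ) → Subgroup K), RF K T h Tor n Xr ∧ Nat.card (Xr (sr i)) = r ∧ inv2 (Xr (sr i)) ≤ 2 := by
  obtain ⟨Ac, h, Tor, n, Xr, D, hr, hz⟩ := hD.exists_rf hK hT hTi
  exact ⟨Ac, h, Tor, n, Xr, D, hr, inv2_le_two hz⟩

section model

variable {F : Type*} [Field F] {V : Type*} [AddCommGroup V] [Module F V] {H : HForm F V} {n : ℕ}
  {Fr : Frame H (Fin n)} {K : Type*} [Group K] (M : Model Fr K)

/-- the data of a Witt model, all nodes except the last one perfect -/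
theorem dt_rg [CharP F 2] [Finite K] [Finite V] (hA : AmbT Fr 2 M.I) (hn : 0 < n) {p0 : Fr.Adm} (hp0 : p0.c ≠ 0)
    (G : TwC.Gd (WittModel.X M)) {t : F} (ht0 : t ≠ 0) (ht1 : t ≠ 1) :
    Dt (Mx := CoxeterMatrix.B n) (Nodes.TypeC.isCartan n) (WittModel.T M)
      (fun i => M.φ ⟨WittRGD.nn Fr p0 i, nn_mem hA p0 i⟩) (WittModel.X M) (fun i => (i : ℕ) + 1 < n) where
  toRg := rg_model M hA hp0 hn
  comm := commGen_model M G
  perf := fun _ hi => node_one M hA hi ht0 ht1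

end model

section UnitaryTwo

variable {F : Type*} [Field F] [Fintype F] {N : ℕ}

/-- **`PSU_{2m}(2)`.** -/
theorem di_PSU_even (hF : Fintype.card F = 2 ^ 2) {m : ℕ} (hm : 2 ≤ m) (hN : N = 2 * m) :
    HasDi (CoxeterMatrix.B m) (fun i => (i : ℕ) + 1 < m) (fun c => ∀ i : Fin m, (i : ℕ) + 1 = m → c i ≤ 2)
      (PSU N F 2) := by
  subst hN
  have hN : 3 ≤ 2 * m := by omega
  have : Fact (Nat.Prime 2) := ⟨Nat.prime_two⟩
  have := charTwo_of_four hF
  have : Finite (PSU (2 * m) F 2) := Quotient.finite _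
  obtain ⟨W, hW⟩ := exists_wframe_even (N := 2 * m) hF rfl
  obtain ⟨p0, hp0, -⟩ := exists_adm hF W
  have hA : AmbT (toFrame W) 2 (KInstU.model hF hN W).I := AmbT.of_amb (amb_U hF W) 2
  obtain ⟨t, ht0, ht1⟩ := exists_ne (two_lt hF)
  exact ⟨_, _, _, _, _, dt_rg (KInstU.model hF hN W) hA (by omega) hp0
    (TwWitt.gd_of_tr _ (TwUni.htr hF W hW) hp0) ht0 ht1, fun i hi => inv2_le_two (inv_U hF hN W hA (by omega))⟩

/-- **`PSU_{2m+1}(2)`.** -/
theorem di_PSU_odd (hF : Fintype.card F = 2 ^ 2) {m : ℕ} (hm : 1 ≤ m) (hN : N = 2 * m + 1) :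
    HasDi (CoxeterMatrix.B m) (fun i => (i : ℕ) + 1 < m) (fun c => ∀ i : Fin m, (i : ℕ) + 1 = m → c i ≤ 2)
      (PSU N F 2) := by
  subst hN
  have hN : 3 ≤ 2 * m + 1 := by omega
  have : Fact (Nat.Prime 2) := ⟨Nat.prime_two⟩
  have := charTwo_of_four hF
  have : Finite (PSU (2 * m + 1) F 2) := Quotient.finite _
  obtain ⟨W, d, hd, hW⟩ := exists_wframe_odd (N := 2 * m + 1) hF rfl
  obtain ⟨p0, hp0, -⟩ := exists_adm hF W
  have hA : AmbT (toFrame W) 2 (KInstU.model hF hN W).I := AmbT.of_amb (amb_U hF W) 2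
  obtain ⟨t, ht0, ht1⟩ := exists_ne (two_lt hF)
  have hdd : (HU hF (2 * m + 1)).h d d ≠ 0 := by
    have h1 : (HU hF (2 * m + 1)).h d d = 1 := hd
    rw [h1]
    exact one_ne_zero
  exact ⟨_, _, _, _, _, dt_rg (KInstU.model hF hN W) hA (by omega) hp0
    (UOdd.gd _ ⟨d, hdd, UOdd.exists_ok hF W hW⟩) ht0 ht1,
    fun i hi => inv2_le_two (inv_U hF hN W hA (by omega))⟩

theorem HasDi.mono {l : ℕ} {Mx : CoxeterMatrix (Fin l)} {pf pf' : Fin l → Prop} {P P' : (Fin l → ℕ) → Prop}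
    {G : Type*} [Group G] (hG : HasDi Mx pf P G) (hp : ∀ i, pf' i → pf i) (hP : ∀ c, P c → P' c) :
    HasDi Mx pf' P' G := by
  obtain ⟨Ac, h, Tor, n, Xr, D, hr⟩ := hG
  exact ⟨Ac, h, Tor, n, Xr, { toRg := D.toRg, comm := D.comm, perf := fun i hi => D.perf i (hp i hi) }, hP _ hr⟩

/-- **The leaf `psu2`: `PSU₄(2)`, `PSU₅(2)`.** -/
theorem di_PSU45 (hF : Fintype.card F = 4) (hN : N = 4 ∨ N = 5) :
    HasDi (CoxeterMatrix.B 2) (fun i => i = 0) (fun c => c 1 < 4) (PSU N F 2) := by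
  have hF' : Fintype.card F = 2 ^ 2 := hF.trans (by norm_num)
  rcases hN with rfl | rfl
  · exact (di_PSU_even (N := 4) (m := 2) hF' le_rfl rfl).mono (by decide) fun c hc =>
      lt_of_le_of_lt (hc 1 rfl) (by norm_num)
  · exact (di_PSU_odd (N := 5) (m := 2) hF' (by norm_num) rfl).mono (by decide) fun c hc =>
      lt_of_le_of_lt (hc 1 rfl) (by norm_num)

end UnitaryTwo

end Cfsg.Agent.Omega.ML.Ex.Lie2
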