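import Cfsg.Agent.Omega.ML.Ex.Lie2.Main
import Cfsg.Agent.Omega.ML.Ex.Lie2.WallT
import Cfsg.Agent.Omega.ML.Ex.Lie2.RankOne
import Cfsg.Agent.Omega.ML.Ex.Lie2.DatE6
import Cfsg.Agent.Omega.ML.Ex.Lie2.DatF4
import Cfsg.Agent.Omega.ML.Ex.Lie2.DataB
import Cfsg.Agent.Omega.ML.Ex.Lie2.DataG
import Cfsg.Agent.Omega.ML.Ex.Lie2.Small
import Cfsg.Agent.Omega.ML.Ex.Lie2.PlugF
import Cfsg.Agent.Omega.ML.Ex.Lie2.FiveP
import Cfsg.Agent.Omega.ML.Ex.RowTwDTwo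
import Cfsg.Agent.Omega.ML.Ex.RowTwF4W
import Cfsg.Agent.Omega.ML.Ex.Typ.Par

/-!
# The Lie(2) row with the W-part and (LA): the leaves (helper993)

**`lie2 : DeadXL (IsLieTypeChar 2)`**.
-/

set_option autoImplicit false

namespace Cfsg.Agent.Omega.ML.Ex.Lie2

open Cfsg
open Subgroup CoxeterSystem Cfsg.Agent.ChevalleyStructure.CoxeterGeom Cfsg.Agent.Tits.Roots Cfsg.Agent.Tits.Core

universe u v w

/-- `PSp_2m(2)` -/
theorem psp2 (F : Type) [Field F] [Fintype F] [CharP F 2] (m : ℕ) (hm : 3 ≤ m) (hF : Fintype.card F = 2) :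
    HasRc (CoxeterMatrix.B m) (fun c => ∀ i : Fin m, (i : ℕ) + 1 = m → c i < 4) (PSp m F) := by
  have : Fact (Nat.Prime 2) := ⟨Nat.prime_two⟩
  obtain ⟨Ac, h, Tor, n, Xr, hW, R, hX, hr⟩ := Typ.par_PSp (F := F) (m := m) (by omega) (p := 2)
  refine ⟨Ac, h, Tor, n, Xr, ⟨hW, R, hX⟩, ?_⟩
  intro i hi
  have hi' : i = ⟨m - 1, by omega⟩ := Fin.ext (by change (i : ℕ) = m - 1; omega)
  rw [hi']
  refine lt_of_le_of_lt hr ?_
  rw [Nat.card_eq_fintype_card, hF]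
  norm_num

/-- `²E₆(q)` -/
theorem e6 (F : Type) [Field F] [Fintype F] [CharP F 2] (q : ℕ) (hq : IsPrimePow q) (hF : Fintype.card F = q ^ 2) :
    HasRc CoxeterMatrix.F₄ (fun c => c 0 ≠ c 3) ↥(Lie.twistedE6 F q) := by
  obtain ⟨A, h, T, n, X, hR, hc⟩ := DatE6.ne_twE6 hq hF
  exact ⟨A, h, T, n, X, hR, hc⟩

/-- `³D₄(2)` -/
theorem d42 : DeadXL.{u, v, w} fun S _ => ∃ (F : Type) (_ : Field F) (_ : Fintype F), CharP F 2 ∧
    Fintype.card F = 8 ∧ Nonempty (S ≃* Lie.twistedD4 F 2) := by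
  intro X _ _ M _ _ _ W _ _ _ K T A p m hI hw hL hK
  refine RankOne.xl RowTwDTwo.deadX_twD4_two X M W K T A p m hI hw hL ?_
  obtain ⟨F, i1, i2, i3, h8, e⟩ := hK
  exact ⟨F, i1, i2, i3, by rw [h8]; norm_num, e⟩

/-- the leaves, over `FiveI` -/
theorem leaves_of_five (five : FiveI.{u, v}) : Leaves.{u, v, w} where
  wall := wallT
  five := five
  f42 := f42
  d42 := d42
  sz := RankOne.deadXL_suz
  tf := RowTwF4W.deadXL
  psp := fun _ _ _ _ _ hm hF => dt_PSp hF (by omega)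
  psp2 := psp2
  psu := fun _ _ _ _ _ _ hF hN => dt_PSU hF hN
  psu2 := fun _ _ _ _ _ h1 h2 => di_PSU45 h1 h2
  g2 := fun _ _ _ _ h4 => DataG.dt_G2 (by rw [Nat.card_eq_fintype_card]; exact h4)
  d4 := fun _ _ _ _ _ hq hF h4 => DataG.dt_D4 hq hF h4
  f4 := fun F _ _ _ h4 => DatF4.hasDt_F4 F h4
  e6 := e6

/-- **The Lie(2) row, over `FiveI`.** -/
theorem lie2_of_five (five : FiveI.{u, v}) : DeadXL.{u, v, w} fun S _ => IsLieTypeChar 2 S :=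
  (leaves_of_five five).lie2

/-- **The Lie(2) row.** -/
theorem lie2 : DeadXL.{u, v, w} fun S _ => IsLieTypeChar 2 S := lie2_of_five fiveP

end Cfsg.Agent.Omega.ML.Ex.Lie2
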