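import Cfsg.Agent.Omega.ML.Ex.Lie2.Def
import Cfsg.Agent.Omega.ML.Ex.Lie2.DatOmm
import Cfsg.Agent.Omega.EH3.Kf.RowOf
import Cfsg.Agent.KFacts.RgdRigid

/-!
# The Lie(2) row: data of the families, transport (helper993)

* `Rg.map`, `Dt.map` : transport along isomorphisms;
* `Dt h Tor n Xr pf` : `CommGen` and perfect nodes;  `HasDt Mx pf G`, `HasDt.of_equiv`, `HasCG.dt`;
* `Rg.exists_rf` : the datum can be conjugated such that `U = T ⊓ K`;
* **`HasDt.exists_rf`**.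
-/

set_option autoImplicit false
set_option linter.unusedSectionVars false

namespace Cfsg.Agent.Omega.ML.Ex.Lie2

open Subgroup CoxeterSystem Cfsg.Agent.ChevalleyStructure.CoxeterGeom Cfsg.Agent.Tits.Roots Cfsg.Agent.Tits.Core
  Cfsg.Agent.Tits.Exchange Cfsg.Agent.Nodes.Reps Cfsg.Agent.Nodes.BNOf Cfsg.Agent.Nodes.StabComb
  Cfsg.Agent.Nodes.Bruhat Cfsg.Agent.Nodes.RGDLib Cfsg.Agent.Omega.EH3.Kf.Lev
open scoped commutatorElement

universe u

section map

variable {Y Y' : Type*} [Group Y] [Group Y'] {l : ℕ} {Mx : CoxeterMatrix (Fin l)} {Ac : Fin l → Fin l → ℤ}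
  {h : IsCartan Mx Ac} {Tor : Subgroup Y} {n : Fin l → Y} {Xr : (Fin l → ℤ) → Subgroup Y}

theorem Sup_map (f : Y →* Y') (S : Set (Fin l → ℤ)) :
    RGD.Sup (fun x => (Xr x).map f) S = (RGD.Sup Xr S).map f := by
  unfold RGD.Sup
  rw [Subgroup.map_iSup]

theorem Rg.map (R : Rg h Tor n Xr) (e : Y ≃* Y') :
    Rg h (Tor.map e.toMonoidHom) (fun i => e (n i)) (fun x => (Xr x).map e.toMonoidHom) where
  fin := R.fin
  rgd := rgd_map_of_injective R.rgd e.toMonoidHom e.injective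
  gen := by rw [Sup_map, R.gen, Subgroup.map_top_of_surjective _ e.surjective]

/-- the data of a group: `CommGen` and perfect nodes -/
structure Dt {Y : Type*} [Group Y] {l : ℕ} {Mx : CoxeterMatrix (Fin l)} {Ac : Fin l → Fin l → ℤ}
    (h : IsCartan Mx Ac) (Tor : Subgroup Y) (n : Fin l → Y) (Xr : (Fin l → ℤ) → Subgroup Y) (pf : Fin l → Prop) :
    Prop extends Rg h Tor n Xr where
  comm : CommGen Mx.toCoxeterSystem h Xr
  perf : ∀ i, pf i → Xr (sr i) ≤ ⁅Li Xr i, Li Xr i⁆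

theorem Dt.map {pf : Fin l → Prop} (D : Dt h Tor n Xr pf) (e : Y ≃* Y') :
    Dt h (Tor.map e.toMonoidHom) (fun i => e (n i)) (fun x => (Xr x).map e.toMonoidHom) pf where
  toRg := D.toRg.map e
  comm := by
    intro r hr h0 hs
    rw [Sup_map, ← Subgroup.map_commutator]
    exact Subgroup.map_mono (D.comm r hr h0 hs)
  perf := by
    intro i hi
    have h1 : Li (fun x => (Xr x).map e.toMonoidHom) i = (Li Xr i).map e.toMonoidHom :=
      (Subgroup.map_sup _ _ _).symm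
    rw [h1, ← Subgroup.map_commutator]
    exact Subgroup.map_mono (D.perf i hi)

end map

/-- a group with data of type `Mx` -/
def HasDt {l : ℕ} (Mx : CoxeterMatrix (Fin l)) (pf : Fin l → Prop) (G : Type*) [Group G] : Prop :=
  ∃ (Ac : Fin l → Fin l → ℤ) (h : IsCartan Mx Ac) (Tor : Subgroup G) (n : Fin l → G)
    (Xr : (Fin l → ℤ) → Subgroup G), Dt h Tor n Xr pf

theorem HasDt.of_equiv {l : ℕ} {Mx : CoxeterMatrix (Fin l)} {pf : Fin l → Prop} {G H : Type*} [Group G] [Group H]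
    (e : G ≃* H) (hG : HasDt Mx pf G) : HasDt Mx pf H := by
  obtain ⟨Ac, h, Tor, n, Xr, D⟩ := hG
  exact ⟨Ac, h, _, _, _, D.map e⟩

theorem HasDt.mono {l : ℕ} {Mx : CoxeterMatrix (Fin l)} {pf pf' : Fin l → Prop} {G : Type*} [Group G]
    (hG : HasDt Mx pf G) (hp : ∀ i, pf' i → pf i) : HasDt Mx pf' G := by
  obtain ⟨Ac, h, Tor, n, Xr, D⟩ := hG
  exact ⟨Ac, h, Tor, n, Xr, { toRg := D.toRg, comm := D.comm, perf := fun i hi => D.perf i (hp i hi) }⟩

theorem HasCG.dt {l : ℕ} {Mx : CoxeterMatrix (Fin l)} {G : Type*} [Group G] (hG : DatOmm.HasCG Mx G) :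
    HasDt Mx (fun _ => False) G := by
  obtain ⟨Ac, h, T, n, X, hW, R, hX, hC⟩ := hG
  exact ⟨Ac, h, T, n, X, { fin := hW, rgd := R, gen := hX, comm := hC, perf := fun _ hi => hi.elim }⟩

/-- a group with a root group datum of type `Mx`, the orders of the simple root groups satisfy `P` -/
def HasRc {l : ℕ} (Mx : CoxeterMatrix (Fin l)) (P : (Fin l → ℕ) → Prop) (G : Type*) [Group G] : Prop :=
  ∃ (Ac : Fin l → Fin l → ℤ) (h : IsCartan Mx Ac) (Tor : Subgroup G) (n : Fin l → G)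
    (Xr : (Fin l → ℤ) → Subgroup G), Rg h Tor n Xr ∧ P fun i => Nat.card (Xr (sr i))

theorem HasRc.of_equiv {l : ℕ} {Mx : CoxeterMatrix (Fin l)} {P : (Fin l → ℕ) → Prop} {G H : Type*} [Group G] [Group H]
    (e : G ≃* H) (hG : HasRc Mx P G) : HasRc Mx P H := by
  obtain ⟨Ac, h, Tor, n, Xr, D, hP⟩ := hG
  refine ⟨Ac, h, _, _, _, D.map e, ?_⟩
  have h1 : (fun i => Nat.card ((Xr (sr i)).map e.toMonoidHom)) = fun i => Nat.card (Xr (sr i)) :=
    funext fun i => Subgroup.card_map_of_injective e.injective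
  show P fun i => Nat.card ((Xr (sr i)).map e.toMonoidHom)
  rw [h1]
  exact hP

/-- a group with data of type `Mx`, and the orders of the simple root groups satisfy `P` -/
def HasDc {l : ℕ} (Mx : CoxeterMatrix (Fin l)) (pf : Fin l → Prop) (P : (Fin l → ℕ) → Prop) (G : Type*) [Group G] :
    Prop :=
  ∃ (Ac : Fin l → Fin l → ℤ) (h : IsCartan Mx Ac) (Tor : Subgroup G) (n : Fin l → G)
    (Xr : (Fin l → ℤ) → Subgroup G), Dt h Tor n Xr pf ∧ P fun i => Nat.card (Xr (sr i))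

theorem HasDc.of_equiv {l : ℕ} {Mx : CoxeterMatrix (Fin l)} {pf : Fin l → Prop} {P : (Fin l → ℕ) → Prop}
    {G H : Type*} [Group G] [Group H] (e : G ≃* H) (hG : HasDc Mx pf P G) : HasDc Mx pf P H := by
  obtain ⟨Ac, h, Tor, n, Xr, D, hP⟩ := hG
  refine ⟨Ac, h, _, _, _, D.map e, ?_⟩
  have h1 : (fun i => Nat.card ((Xr (sr i)).map e.toMonoidHom)) = fun i => Nat.card (Xr (sr i)) :=
    funext fun i => Subgroup.card_map_of_injective e.injective
  show P fun i => Nat.card ((Xr (sr i)).map e.toMonoidHom)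
  rw [h1]
  exact hP

/-- the number of the elements `u` of `S` with `u ^ 2 = 1` -/
noncomputable def inv2 {G : Type*} [Group G] (S : Subgroup G) : ℕ := Nat.card {u : G // u ∈ S ∧ u * u = 1}

theorem inv2_map {G H : Type*} [Group G] [Group H] (e : G ≃* H) (S : Subgroup G) :
    inv2 (S.map e.toMonoidHom) = inv2 S := by
  refine Nat.card_congr ⟨fun u => ⟨e.symm u.1, ?_, ?_⟩, fun u => ⟨e u.1, ?_, ?_⟩, fun u => ?_, fun u => ?_⟩
  · obtain ⟨y, hy, h1⟩ := u.2.1
    rw [← h1]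
    change e.symm (e y) ∈ S
    rwa [e.symm_apply_apply]
  · rw [← map_mul, u.2.2, map_one]
  · exact ⟨u.1, u.2.1, rfl⟩
  · rw [← map_mul, u.2.2, map_one]
  · exact Subtype.ext (e.apply_symm_apply _)
  · exact Subtype.ext (e.symm_apply_apply _)

theorem inv2_le {G : Type*} [Group G] [Finite G] (S : Subgroup G) : inv2 S ≤ Nat.card S :=
  Nat.card_le_card_of_injective (fun u : {u : G // u ∈ S ∧ u * u = 1} => (⟨u.1, u.2.1⟩ : S)) fun _ _ h =>
    Subtype.ext (congrArg (fun z : S => (z : G)) h)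

/-- a group with data of type `Mx`, and the numbers `inv2` of the simple root groups satisfy `P` -/
def HasDi {l : ℕ} (Mx : CoxeterMatrix (Fin l)) (pf : Fin l → Prop) (P : (Fin l → ℕ) → Prop) (G : Type*) [Group G] :
    Prop :=
  ∃ (Ac : Fin l → Fin l → ℤ) (h : IsCartan Mx Ac) (Tor : Subgroup G) (n : Fin l → G)
    (Xr : (Fin l → ℤ) → Subgroup G), Dt h Tor n Xr pf ∧ P fun i => inv2 (Xr (sr i))

theorem HasDi.of_equiv {l : ℕ} {Mx : CoxeterMatrix (Fin l)} {pf : Fin l → Prop} {P : (Fin l → ℕ) → Prop}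
    {G H : Type*} [Group G] [Group H] (e : G ≃* H) (hG : HasDi Mx pf P G) : HasDi Mx pf P H := by
  obtain ⟨Ac, h, Tor, n, Xr, D, hP⟩ := hG
  refine ⟨Ac, h, _, _, _, D.map e, ?_⟩
  have h1 : (fun i => inv2 ((Xr (sr i)).map e.toMonoidHom)) = fun i => inv2 (Xr (sr i)) :=
    funext fun i => inv2_map e _
  show P fun i => inv2 ((Xr (sr i)).map e.toMonoidHom)
  rw [h1]
  exact hP

section conj

variable {X : Type u} [Group X] [Finite X] {K T : Subgroup X} {l : ℕ} {Mx : CoxeterMatrix (Fin l)}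
  {Ac : Fin l → Fin l → ℤ} {h : IsCartan Mx Ac} {Tor : Subgroup K} {n : Fin l → K}
  {Xr : (Fin l → ℤ) → Subgroup K}

/-- **Conjugation to a datum with `U = T ⊓ K`.** -/
theorem Rg.exists_rf (hK : K.Normal) (hT : IsPGroup 2 T) (hTi : ¬ 2 ∣ T.index) (R : Rg h Tor n Xr) :
    ∃ g : K, RF K T h (Tor.map (MulAut.conj g).toMonoidHom) (fun i => MulAut.conj g (n i))
      (fun x => (Xr x).map (MulAut.conj g).toMonoidHom) := by
  have := R.fin
  have : Fact (Nat.Prime 2) := ⟨Nat.prime_two⟩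
  obtain ⟨g, hg⟩ := EH3.Kf.RowOf.exists_syl R.rgd (KFacts.RgdRigid.GG_eq_top R.gen) (hT.toSylow hTi)
  refine ⟨g, { toRg := R.map (MulAut.conj g), syl := ?_ }⟩
  rw [Sup_map]
  ext x
  exact hg x

/-- **The data for `T`.** -/
theorem HasDt.exists_rf {pf : Fin l → Prop} (hK : K.Normal) (hT : IsPGroup 2 T) (hTi : ¬ 2 ∣ T.index)
    (hD : HasDt Mx pf K) : ∃ (Ac : Fin l → Fin l → ℤ) (h : IsCartan Mx Ac) (Tor : Subgroup K) (n : Fin l → K)
      (Xr : (Fin l → ℤ) → Subgroup K), RF K T h Tor n Xr ∧ Dt h Tor n Xr pf := by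
  obtain ⟨Ac, h, Tor, n, Xr, D⟩ := hD
  obtain ⟨g, hg⟩ := D.toRg.exists_rf hK hT hTi
  exact ⟨Ac, h, _, _, _, hg, D.map _⟩

/-- **The datum for `T`, with the orders of the simple root groups.** -/
theorem HasRc.exists_rf {P : (Fin l → ℕ) → Prop} (hK : K.Normal) (hT : IsPGroup 2 T) (hTi : ¬ 2 ∣ T.index)
    (hD : HasRc Mx P K) : ∃ (Ac : Fin l → Fin l → ℤ) (h : IsCartan Mx Ac) (Tor : Subgroup K) (n : Fin l → K)
      (Xr : (Fin l → ℤ) → Subgroup K), RF K T h Tor n Xr ∧ P fun i => Nat.card (Xr (sr i)) := by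
  obtain ⟨Ac, h, Tor, n, Xr, D, hP⟩ := hD
  obtain ⟨g, hg⟩ := D.exists_rf hK hT hTi
  refine ⟨Ac, h, _, _, _, hg, ?_⟩
  have h1 : (fun i => Nat.card ((Xr (sr i)).map (MulAut.conj g).toMonoidHom)) = fun i => Nat.card (Xr (sr i)) :=
    funext fun i => Subgroup.card_map_of_injective (MulAut.conj g).injective
  show P fun i => Nat.card ((Xr (sr i)).map (MulAut.conj g).toMonoidHom)
  rw [h1]
  exact hP

/-- **The data for `T`, with the orders of the simple root groups.** -/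
theorem HasDc.exists_rf {pf : Fin l → Prop} {P : (Fin l → ℕ) → Prop} (hK : K.Normal) (hT : IsPGroup 2 T)
    (hTi : ¬ 2 ∣ T.index) (hD : HasDc Mx pf P K) : ∃ (Ac : Fin l → Fin l → ℤ) (h : IsCartan Mx Ac)
      (Tor : Subgroup K) (n : Fin l → K) (Xr : (Fin l → ℤ) → Subgroup K), RF K T h Tor n Xr ∧ Dt h Tor n Xr pf ∧
        P fun i => Nat.card (Xr (sr i)) := by
  obtain ⟨Ac, h, Tor, n, Xr, D, hP⟩ := hD
  obtain ⟨g, hg⟩ := D.toRg.exists_rf hK hT hTi
  refine ⟨Ac, h, _, _, _, hg, D.map _, ?_⟩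
  have h1 : (fun i => Nat.card ((Xr (sr i)).map (MulAut.conj g).toMonoidHom)) = fun i => Nat.card (Xr (sr i)) :=
    funext fun i => Subgroup.card_map_of_injective (MulAut.conj g).injective
  show P fun i => Nat.card ((Xr (sr i)).map (MulAut.conj g).toMonoidHom)
  rw [h1]
  exact hP

/-- **The data for `T`, with the numbers `inv2` of the simple root groups.** -/
theorem HasDi.exists_rf {pf : Fin l → Prop} {P : (Fin l → ℕ) → Prop} (hK : K.Normal) (hT : IsPGroup 2 T)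
    (hTi : ¬ 2 ∣ T.index) (hD : HasDi Mx pf P K) : ∃ (Ac : Fin l → Fin l → ℤ) (h : IsCartan Mx Ac)
      (Tor : Subgroup K) (n : Fin l → K) (Xr : (Fin l → ℤ) → Subgroup K), RF K T h Tor n Xr ∧ Dt h Tor n Xr pf ∧
        P fun i => inv2 (Xr (sr i)) := by
  obtain ⟨Ac, h, Tor, n, Xr, D, hP⟩ := hD
  obtain ⟨g, hg⟩ := D.toRg.exists_rf hK hT hTi
  refine ⟨Ac, h, _, _, _, hg, D.map _, ?_⟩
  have h1 : (fun i => inv2 ((Xr (sr i)).map (MulAut.conj g).toMonoidHom)) = fun i => inv2 (Xr (sr i)) :=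
    funext fun i => inv2_map (MulAut.conj g) _
  show P fun i => inv2 ((Xr (sr i)).map (MulAut.conj g).toMonoidHom)
  rw [h1]
  exact hP

end conj

end Cfsg.Agent.Omega.ML.Ex.Lie2
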