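import Cfsg.Agent.Omega.ML.Ex.LA
import Cfsg.Agent.Omega.ML.Ex.Lie2.CPerf
import Cfsg.Agent.Omega.ML.Ex.WallGood
import Cfsg.Agent.Omega.FOne.Lift.Basic
import Cfsg.Agent.Lib.SylowNormalInf

/-!
# The Lie(2) row with the W-part and (LA): the frame and the sockets (helper993)

* `Rg h Tor n Xr` : a root group datum of characteristic two which generates `Y`;
  `RF K T h Tor n Xr` : such a datum of the normal subgroup `K` of `X`, with `U = T ⊓ K`;
* `Jm Xr m` : the nodes `i` such that `X (-sr i)` fixes `m`;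
* `Sg K T Mx Xr σ` : the action of `X` on the nodes, with a proper nonempty `T`-invariant set;  `LL T σ L`;
* `WallT` : the output of the WALL THEOREM (helper721 #22477);
* **`false_of_perf`** : `U ≤ ⁅P, P⁆`, `P` the stabiliser of `m` in `K`, is a contradiction;
* **`false_of_adj`** : 829's (C).
-/

set_option autoImplicit false
set_option linter.unusedSectionVars false

namespace Cfsg.Agent.Omega.ML.Ex.Lie2

open Subgroup CoxeterSystem Cfsg.Agent.ChevalleyStructure.CoxeterGeom Cfsg.Agent.Tits.Roots Cfsg.Agent.Tits.Core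
  Cfsg.Agent.Tits.Exchange Cfsg.Agent.Nodes.Reps Cfsg.Agent.Nodes.BNOf Cfsg.Agent.Nodes.StabComb
  Cfsg.Agent.Nodes.Bruhat Cfsg.Agent.Omega.EH3.Kf.Lev Cfsg.Agent.Omega.ML.Ex.WallGood
open scoped commutatorElement

universe u v w

/-- a root group datum of characteristic two which generates `Y` -/
structure Rg {Y : Type*} [Group Y] {l : ℕ} {Mx : CoxeterMatrix (Fin l)} {Ac : Fin l → Fin l → ℤ}
    (h : IsCartan Mx Ac) (Tor : Subgroup Y) (n : Fin l → Y) (Xr : (Fin l → ℤ) → Subgroup Y) : Prop where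
  fin : Finite Mx.Group
  rgd : RGD Mx.toCoxeterSystem h 2 Tor n Xr
  gen : RGD.Sup Xr {x | IsRoot Mx.toCoxeterSystem h x} = ⊤

/-- a root group datum of the subgroup `K` with `U = T ⊓ K` -/
structure RF {X : Type u} [Group X] (K T : Subgroup X) {l : ℕ} {Mx : CoxeterMatrix (Fin l)} {Ac : Fin l → Fin l → ℤ}
    (h : IsCartan Mx Ac) (Tor : Subgroup K) (n : Fin l → K) (Xr : (Fin l → ℤ) → Subgroup K) : Prop extends
    Rg h Tor n Xr where
  syl : RGD.Sup Xr (RGD.Pos Mx.toCoxeterSystem h) = T.subgroupOf K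

/-- the nodes which fix `m` -/
def Jm {X : Type u} [Group X] {M : Type v} [Group M] [MulDistribMulAction X M] {K : Subgroup X} {l : ℕ}
    (Xr : (Fin l → ℤ) → Subgroup K) (m : M) : Set (Fin l) := {i | ∀ x ∈ Xr (-sr i), (x : X) • m = m}

/-- the action of `X` on the nodes -/
structure Sg {X : Type u} [Group X] {K : Subgroup X} (T : Subgroup X) {l : ℕ} (Mx : CoxeterMatrix (Fin l))
    (Xr : (Fin l → ℤ) → Subgroup K) (σ : X → Fin l → Fin l) : Prop where
  one : ∀ i, σ 1 i = i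
  mul : ∀ g h i, σ (g * h) i = σ g (σ h i)
  mat : ∀ g i j, Mx (σ g i) (σ g j) = Mx i j
  card : ∀ g i, Nat.card (Xr (sr (σ g i))) = Nat.card (Xr (sr i))
  two : ∃ L : Set (Fin l), L.Nonempty ∧ L ≠ Set.univ ∧ ∀ t ∈ T, ∀ i ∈ L, σ t i ∈ L

/-- the proper `T`-invariant types -/
def LL {X : Type u} [Group X] (T : Subgroup X) {l : ℕ} (σ : X → Fin l → Fin l) (L : Set (Fin l)) : Prop :=
  L ≠ Set.univ ∧ ∀ t ∈ T, ∀ i ∈ L, σ t i ∈ L

/-- **The output of the WALL THEOREM.** -/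
def WallT : Prop :=
  ∀ (X : Type u) [Group X] [Finite X] (M : Type v) [Group M] [Finite M] [MulDistribMulAction X M]
    (K T A : Subgroup X) (m : M) (l : ℕ) (Mx : CoxeterMatrix (Fin l)) (Ac : Fin l → Fin l → ℤ)
    (h : IsCartan Mx Ac) (Tor : Subgroup K) (n : Fin l → K) (Xr : (Fin l → ℤ) → Subgroup K),
    0 < l → InX X M K T A → LA X M T A m → RF K T h Tor n Xr →
    ∃ σ : X → Fin l → Fin l, Sg T Mx Xr σ ∧ (∀ t ∈ T, ∀ j ∈ Jm Xr m, σ t j ∈ Jm Xr m) ∧
      ∃ i, i ∉ Jm Xr m ∧ (∀ k, k ∉ Jm Xr m → ∃ t ∈ T, σ t i = k) ∧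
        ¬ Good Mx.toCoxeterSystem (Jm Xr m) (LL T σ) i

section perf

variable {X : Type u} [Group X] [Finite X] {M : Type v} [Group M] [Finite M] [MulDistribMulAction X M]
  {W : Type w} [CommGroup W] [Finite W] [MulDistribMulAction X W] {K T A : Subgroup X} {p : W →* M} {m : M}
  {l : ℕ} {Mx : CoxeterMatrix (Fin l)} {Ac : Fin l → Fin l → ℤ} {h : IsCartan Mx Ac} {Tor : Subgroup K}
  {n : Fin l → K} {Xr : (Fin l → ℤ) → Subgroup K}

/-- the stabiliser of `m` in `K` -/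
def Stm (K : Subgroup X) (m : M) : Subgroup K := (MulAction.stabilizer X m).subgroupOf K

theorem mem_Stm {x : K} : x ∈ Stm K m ↔ (x : X) • m = m := Iff.rfl

/-- **The contradiction.** -/
theorem false_of_perf (hI : InX X M K T A) (hw : WPart K T p) (hL : LA X M T A m) (hR : RF K T h Tor n Xr)
    (hP : RGD.Sup Xr (RGD.Pos Mx.toCoxeterSystem h) ≤ ⁅Stm K m, Stm K m⁆) : False := by
  have hodd : ¬ 2 ∣ (T ⊓ K).relIndex K := by
    have := hI.norm
    rw [Subgroup.inf_relIndex_right]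
    exact Cfsg.Agent.Lib.SylowNormalInf.not_dvd_relIndex (hI.two.toSylow hI.syl) K
  refine FOne.Lift.false_of_mem hw hI.two hI.norm hodd (m := m) ?_ hL.ne
  have h1 := FOne.Lift.comm_mem hw (L := (Stm K m).map K.subtype) (m := m) (map_subtype_le _) (by
    rintro _ ⟨x, hx, rfl⟩
    exact hx)
  refine FOne.Lift.FLs_anti ?_ h1
  rw [← map_commutator]
  intro x hx
  exact ⟨⟨x, hx.2⟩, hP (by rw [hR.syl]; exact hx.1), rfl⟩

theorem U_le_Stm (hL : LA X M T A m) (hR : RF K T h Tor n Xr) :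
    RGD.Sup Xr (RGD.Pos Mx.toCoxeterSystem h) ≤ Stm K m := by
  rw [hR.syl]
  intro x hx
  exact hL.fix x hx

/-- **829's (C).** -/
theorem false_of_adj (hI : InX X M K T A) (hw : WPart K T p) (hL : LA X M T A m) (hR : RF K T h Tor n Xr)
    (hc : CommGen Mx.toCoxeterSystem h Xr)
    (hadj : ∀ i, (∃ j ∈ Jm Xr m, i ≠ j ∧ Mx i j ≠ 2) ∨ (i ∈ Jm Xr m ∧ Xr (sr i) ≤ ⁅Li Xr i, Li Xr i⁆)) : False :=
  false_of_perf hI hw hL hR (le_comm hR.rgd hc (U_le_Stm hL hR) (J := Jm Xr m) (fun _ hj _ hx => hj _ hx) hadj)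

end perf

end Cfsg.Agent.Omega.ML.Ex.Lie2
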