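import Cfsg.Agent.Omega.ML.Ex.Lie2.Main
import Cfsg.Agent.Omega.FOne.Lift.FFourX

/-!
# The leaf `f42` of the Lie(2) row: `F₄(2)` with the graph automorphism (helper115)
-/

set_option autoImplicit false

namespace Cfsg.Agent.Omega.ML.Ex.Lie2

open Subgroup CoxeterSystem Cfsg.Agent.ChevalleyStructure.CoxeterGeom Cfsg.Agent.Tits.Roots Cfsg.Agent.Tits.Core
  Cfsg.Agent.Nodes.Reps Cfsg.Agent.Nodes.BNOf Cfsg.Agent.Nodes.StabComb Cfsg.Agent.Nodes.Bruhat
open Cfsg.Agent.Omega.FOne.Lift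

universe u v w

/-- a field of order two -/
theorem zero_or_one {F : Type*} [Field F] [Fintype F] (hF : Fintype.card F = 2) (t : F) : t = 0 ∨ t = 1 := by
  classical
  have h1 : ({0, 1} : Finset F) = Finset.univ := by
    refine Finset.eq_univ_of_card _ ?_
    rw [Finset.card_pair zero_ne_one, hF]
  have h2 : t ∈ ({0, 1} : Finset F) := by rw [h1]; exact Finset.mem_univ t
  simpa using h2

/-- **The leaf `f42`.** -/
theorem fFourTwo : FFourTwo.{u, v, w} := by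
  intro X _ _ M _ _ _ W _ _ _ K T A p m hI hw hL hF hJ
  obtain ⟨F, _, _, hc, hF2, ⟨e0⟩⟩ := hF
  obtain ⟨e, Tt, n, Xr, R, S, hG, hU⟩ := FFour.exists_sys (X := X) hI.norm hI.two hI.syl e0
  have hRF : RF K T FFour.hcF Tt n Xr := ⟨⟨FFour.finite_F4, R, hG⟩, hU⟩
  refine FFour.row hI hw S (zero_or_one hF2) hG hU (m := m) hL.fix fun i => ?_
  have h1 : i ∈ Jm Xr m ↔ i = 1 ∨ i = 2 := by
    rw [hJ _ _ _ _ _ hRF]
    rfl
  rw [← h1]
  exact Iff.rfl

end Cfsg.Agent.Omega.ML.Ex.Lie2
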