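import Mathlib
import Cfsg.Agent.SplitTwo.HexDefs

/-!
# The Lie(2) row: commutators in hexagonal systems, characteristic two, `|F| ≥ 4` (helper690)

`R : HexRel σ x₁ … x₆`, the values in `U`, `F = C_E(σ)` of characteristic two with an element `≠ 0, 1`:

* `two` : `x₂(t) ∈ [U,U]`;  `four` : `x₄(t) ∈ [U,U]`;  `three` : `x₃(a) ∈ [U,U]`;  `five` : `x₅(a) ∈ [U,U]`.
-/

set_option autoImplicit false

namespace Cfsg.Agent.Omega.ML.Ex.Lie2.HexComm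

open Cfsg.Agent.SplitTwo
open scoped commutatorElement

variable {E : Type*} [Field E] [CharP E 2] {σ : E ≃+* E} {G : Type*} [Group G] {x1 x2 x3 x4 x5 x6 : E → G}

theorem kk_mem {U : Subgroup G} {a b : G} (ha : a ∈ U) (hb : b ∈ U) : kk a b ∈ ⁅U, U⁆ := by
  have h1 : kk a b = ⁅a⁻¹, b⁻¹⁆ := by
    rw [kk, commutatorElement_def, inv_inv, inv_inv]
  rw [h1]
  exact Subgroup.commutator_mem_commutator (inv_mem ha) (inv_mem hb)

theorem conj_mem {U : Subgroup G} {g z : G} (hg : g ∈ U) (hz : z ∈ ⁅U, U⁆) : g * z * g⁻¹ ∈ ⁅U, U⁆ := by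
  have h1 : g * z * g⁻¹ = ⁅g, z⁆ * z := by rw [commutatorElement_def]; group
  rw [h1]
  exact mul_mem (Subgroup.commutator_mem_commutator hg (Subgroup.commutator_le_self _ hz)) hz

/-- the adjoint is onto -/
theorem exists_shp [Finite E] (h3 : ∀ a, σ (σ (σ a)) = a) (c : E) : ∃ a, shp σ a = c := by
  by_cases hc : c = 0
  · exact ⟨0, by rw [shp, map_zero, map_zero, zero_mul, hc]⟩
  have hinj : Function.Injective fun x : E => x ^ 2 := fun x y hxy => by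
    rcases sq_eq_sq_iff_eq_or_eq_neg.1 (show x ^ 2 = y ^ 2 from hxy) with h1 | h1
    · exact h1
    · rw [h1, CharTwo.neg_eq]
  obtain ⟨s, hs⟩ := (Finite.injective_iff_surjective.1 hinj) (nrm σ c)
  have hs' : s ^ 2 = nrm σ c := hs
  have hfix : σ (nrm σ c) = nrm σ c := by
    rw [nrm, map_mul, map_mul, h3]
    ring
  have hσs : σ s = s := hinj (by
    change σ s ^ 2 = s ^ 2
    rw [← map_pow, hs', hfix])
  have h1 : σ c ≠ 0 := (map_ne_zero σ).2 hc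
  have h2 : σ (σ c) ≠ 0 := (map_ne_zero σ).2 h1
  refine ⟨s / c, ?_⟩
  rw [shp, map_div₀, map_div₀, hσs, hσs, div_mul_div_comm, ← pow_two, hs', nrm]
  field_simp

variable (R : HexRel σ x1 x2 x3 x4 x5 x6) {U : Subgroup G}
include R

theorem two (h1 : ∀ a, x1 a ∈ U) (h3 : ∀ a, x3 a ∈ U) {t : E} (ht : σ t = t) : x2 t ∈ ⁅U, U⁆ := by
  have h : trc σ t 1 = t := by
    rw [trc, mul_one, ht, ht]
    have h2 := CharTwo.add_self_eq_zero t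
    rw [h2, zero_add]
  rw [← h, ← R.c13]
  exact kk_mem (h1 _) (h3 _)

theorem four (h1 : ∀ a, x1 a ∈ U) (h3 : ∀ a, x3 a ∈ U) (h6 : ∀ t, σ t = t → x6 t ∈ U) {t : E} (ht : σ t = t) :
    x4 t ∈ ⁅U, U⁆ := by
  have h := R.c26 t 1 ht (map_one σ)
  rw [mul_one] at h
  rw [← h]
  exact kk_mem (Subgroup.commutator_le_self _ (two R h1 h3 ht)) (h6 1 (map_one σ))

theorem three [Finite E] (h1 : ∀ a, x1 a ∈ U) (h3 : ∀ a, x3 a ∈ U) (h6 : ∀ t, σ t = t → x6 t ∈ U) {l : E}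
    (hl : σ l = l) (hl0 : l ≠ 0) (hl1 : l ≠ 1) (c : E) : x3 c ∈ ⁅U, U⁆ := by
  obtain ⟨a, ha⟩ := exists_shp R.cube c
  -- `t = 1 / (l - 1)`
  have hd : l - 1 ≠ 0 := sub_ne_zero.2 hl1
  obtain ⟨t, ht⟩ : ∃ t, t = (l - 1)⁻¹ := ⟨_, rfl⟩
  have htσ : σ t = t := by rw [ht, map_inv₀, map_sub, map_one, hl]
  have htl : σ (t / l) = t / l := by rw [map_div₀, htσ, hl]
  have hn : σ (nrm σ a) = nrm σ a := by
    rw [nrm, map_mul, map_mul, R.cube]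
    ring
  have hn' : σ (nrm σ (l * a)) = nrm σ (l * a) := by
    rw [nrm, map_mul, map_mul, R.cube]
    ring
  have f2 : ∀ s, σ s = s → x2 s ∈ ⁅U, U⁆ := fun s hs => two R h1 h3 hs
  have f4 : ∀ s, σ s = s → x4 s ∈ ⁅U, U⁆ := fun s hs => four R h1 h3 h6 hs
  have e1 := R.c16 a t htσ
  have e2 := R.c16 (l * a) (t / l) htl
  have s2 : shp σ (l * a) = l ^ 2 * shp σ a := by
    rw [shp, shp, map_mul, map_mul, hl, hl]
    ring
  have e5 : t / l * (l * a) = t * a := by field_simp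
  rw [s2, e5] at e2
  have k1 : kk (x1 a) (x6 t) ∈ ⁅U, U⁆ := kk_mem (h1 _) (h6 _ htσ)
  have k2 : kk (x1 (l * a)) (x6 (t / l)) ∈ ⁅U, U⁆ := kk_mem (h1 _) (h6 _ htl)
  rw [e1] at k1
  rw [e2] at k2
  have m2 := f2 (-(t * nrm σ a)) (by rw [map_neg, map_mul, htσ, hn])
  have m2' := f2 (-(t / l * nrm σ (l * a))) (by rw [map_neg, map_mul, htl, hn'])
  have m4 := f4 (t ^ 2 * nrm σ a) (by rw [map_mul, map_pow, htσ, hn])
  have m4' := f4 ((t / l) ^ 2 * nrm σ (l * a)) (by rw [map_mul, map_pow, htl, hn'])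
  -- generic: `p a b c ∈ D`, `p' a' b' c ∈ D` with `p, p', b, b' ∈ D` gives `a' a⁻¹ ∈ D`
  have key : ∀ p p' u u' b b' v : G, p ∈ ⁅U, U⁆ → p' ∈ ⁅U, U⁆ → b ∈ ⁅U, U⁆ → b' ∈ ⁅U, U⁆ → u ∈ U → u' ∈ U →
      p * u * b * v ∈ ⁅U, U⁆ → p' * u' * b' * v ∈ ⁅U, U⁆ → u' * u⁻¹ ∈ ⁅U, U⁆ := by
    intro p p' u u' b b' v hp hp' hb hb' hu hu' h h'
    have c1 : u * b * v ∈ ⁅U, U⁆ := by
      have := mul_mem (inv_mem hp) h
      simpa [mul_assoc] using this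
    have c2 : u' * b' * v ∈ ⁅U, U⁆ := by
      have := mul_mem (inv_mem hp') h'
      simpa [mul_assoc] using this
    have c3 : u' * (b' * b⁻¹) * u⁻¹ ∈ ⁅U, U⁆ := by
      have h5 : u' * (b' * b⁻¹) * u⁻¹ = (u' * b' * v) * (u * b * v)⁻¹ := by group
      rw [h5]
      exact mul_mem c2 (inv_mem c1)
    have c4 : u' * (b' * b⁻¹) * u'⁻¹ ∈ ⁅U, U⁆ := conj_mem hu' (mul_mem hb' (inv_mem hb))
    have h6 : u' * u⁻¹ = (u' * (b' * b⁻¹) * u'⁻¹)⁻¹ * (u' * (b' * b⁻¹) * u⁻¹) := by group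
    rw [h6]
    exact mul_mem (inv_mem c4) c3
  have hfin := key _ _ _ _ _ _ _ m2 m2' m4 m4' (h3 _) (h3 _) k1 k2
  have e3 : x3 (t / l * (l ^ 2 * shp σ a)) * (x3 (t * shp σ a))⁻¹ = x3 c := by
    rw [mul_inv_eq_iff_eq_mul, ← R.add3]
    congr 1
    rw [ha, ht]
    field_simp
    ring
  rwa [e3] at hfin

theorem five [Finite E] (h1 : ∀ a, x1 a ∈ U) (h3 : ∀ a, x3 a ∈ U) (h6 : ∀ t, σ t = t → x6 t ∈ U) {l : E}
    (hl : σ l = l) (hl0 : l ≠ 0) (hl1 : l ≠ 1) (c : E) : x5 c ∈ ⁅U, U⁆ := by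
  have hn : σ (nrm σ (-c)) = nrm σ (-c) := by
    rw [nrm, map_mul, map_mul, R.cube]
    ring
  have e1 := R.c16 (-c) 1 (map_one σ)
  have k1 : kk (x1 (-c)) (x6 1) ∈ ⁅U, U⁆ := kk_mem (h1 _) (h6 _ (map_one σ))
  rw [e1, one_mul, one_mul, one_mul, one_pow, one_mul, neg_neg] at k1
  have m2 := two R h1 h3 (t := -(nrm σ (-c))) (by rw [map_neg, hn])
  have m3 := three R h1 h3 h6 hl hl0 hl1 (shp σ (-c))
  have m4 := four R h1 h3 h6 (t := nrm σ (-c)) hn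
  have m := mul_mem (inv_mem (mul_mem (mul_mem m2 m3) m4)) k1
  rwa [inv_mul_cancel_left] at m

end Cfsg.Agent.Omega.ML.Ex.Lie2.HexComm
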