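import Cfsg.Agent.Omega.ML.Ex.Lie2.Dat
import Cfsg.Agent.Omega.ML.Ex.Typ.List
import Cfsg.Agent.Omega.ML.Ex.WallSig

/-!
# The Lie(2) row with the W-part and (LA): assembly (helper993)

`Leaves.lie2 : DeadXL (IsLieTypeChar 2)` from

* `wall` : the WALL THEOREM (helper721, 72, 530);
* data : `psp`, `psu`, `psu2` (helper613, 209, 221), `g2`, `d4` (helper833), `f4` (helper225), `psp2` (helper72),
  `e6` (helper949);
* `five` : the end node moves, `X_last` contains at most one involution (helper221);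
* `d42` : `³D₄(2)` (helper809);  `f42` : `F₄(2)` with the graph automorphism (helper115);
* `sz`, `tf` : the Suzuki groups and the groups `²F₄(q)` (helper218, helper333).
-/

set_option autoImplicit false
set_option linter.unusedSectionVars false

namespace Cfsg.Agent.Omega.ML.Ex.Lie2

open Cfsg
open Subgroup CoxeterSystem Cfsg.Agent.ChevalleyStructure.CoxeterGeom Cfsg.Agent.Tits.Roots Cfsg.Agent.Tits.Core
  Cfsg.Agent.Tits.Exchange Cfsg.Agent.Nodes.Reps Cfsg.Agent.Nodes.BNOf Cfsg.Agent.Nodes.StabComb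
  Cfsg.Agent.Nodes.Bruhat Cfsg.Agent.Nodes.RGDLib Cfsg.Agent.Omega.EH3.Kf.Lev Cfsg.Agent.Omega.ML.Ex.WallGood
  Cfsg.Agent.Omega.ML.Ex.WallSig
open Cfsg.Agent.Nodes.RGDChev (IsType typeList)
open scoped commutatorElement

universe u v w

section one

variable {X : Type u} [Group X] [Finite X] {M : Type v} [Group M] [Finite M] [MulDistribMulAction X M]
  {K T A : Subgroup X} {m : M} {l : ℕ} {Mx : CoxeterMatrix (Fin l)} {Ac : Fin l → Fin l → ℤ} {h : IsCartan Mx Ac}
  {Tor : Subgroup K} {n : Fin l → K} {Xr : (Fin l → ℤ) → Subgroup K}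

/-- the output of the wall theorem -/
structure Out (T : Subgroup X) (Mx : CoxeterMatrix (Fin l)) (Xr : (Fin l → ℤ) → Subgroup K) (m : M)
    (σ : X → Fin l → Fin l) (i : Fin l) : Prop where
  sg : Sg T Mx Xr σ
  inv : ∀ t ∈ T, ∀ j ∈ Jm Xr m, σ t j ∈ Jm Xr m
  mem : i ∉ Jm Xr m
  orb : ∀ k, k ∉ Jm Xr m → ∃ t ∈ T, σ t i = k
  bad : ¬ Good Mx.toCoxeterSystem (Jm Xr m) (LL T σ) i

theorem exists_out (wall : WallT.{u, v}) (hl : 0 < l) (hI : InX X M K T A) (hL : LA X M T A m)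
    (hR : RF K T h Tor n Xr) : ∃ σ i, Out T Mx Xr m σ i := by
  obtain ⟨σ, h1, h2, i, h3, h4, h5⟩ := wall X M K T A m l Mx Ac h Tor n Xr hl hI hL hR
  exact ⟨σ, i, h1, h2, h3, h4, h5⟩

variable {σ : X → Fin l → Fin l} {i : Fin l} (O : Out T Mx Xr m σ i)
include O

theorem Out.orb_inv {k : Fin l} (hk : ∃ t ∈ T, σ t i = k) {s : X} (hs : s ∈ T) : ∃ t ∈ T, σ t i = σ s k := by
  obtain ⟨t, ht, rfl⟩ := hk
  exact ⟨s * t, mul_mem hs ht, O.sg.mul _ _ _⟩

/-- `Jm` is not empty -/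
theorem Out.nonempty : (Jm Xr m : Set (Fin l)).Nonempty := by
  by_contra hne
  rw [Set.not_nonempty_iff_eq_empty] at hne
  obtain ⟨L, ⟨j, hj⟩, hLu, hLT⟩ := O.sg.two
  apply hLu
  ext k
  simp only [Set.mem_univ, iff_true]
  have h1 : ∀ k, ∃ t ∈ T, σ t i = k := fun k => O.orb k (by rw [hne]; exact Set.notMem_empty k)
  obtain ⟨t, ht, e⟩ := h1 j
  obtain ⟨s, hs, e'⟩ := h1 k
  have h2 : σ (s * t⁻¹) j = k := by
    rw [← e, ← O.sg.mul, inv_mul_cancel_right, e']
  rw [← h2]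
  exact hLT _ (mul_mem hs (inv_mem ht)) _ hj

/-- the orbit of `i` is a proper invariant type -/
theorem Out.exists_LL : ∃ L, LL T σ L ∧ i ∈ L := by
  refine ⟨{k | ∃ t ∈ T, σ t i = k}, ⟨?_, ?_⟩, 1, one_mem _, O.sg.one i⟩
  · intro hu
    obtain ⟨L, ⟨j, hj⟩, hLu, hLT⟩ := O.sg.two
    apply hLu
    ext k
    simp only [Set.mem_univ, iff_true]
    have h1 : ∀ k, ∃ t ∈ T, σ t i = k := fun k => by
      have h2 : k ∈ {k | ∃ t ∈ T, σ t i = k} := by rw [hu]; trivial
      exact h2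
    obtain ⟨t, ht, e⟩ := h1 j
    obtain ⟨s, hs, e'⟩ := h1 k
    have h2 : σ (s * t⁻¹) j = k := by
      rw [← e, ← O.sg.mul, inv_mul_cancel_right, e']
    rw [← h2]
    exact hLT _ (mul_mem hs (inv_mem ht)) _ hj
  · rintro t ht k hk
    exact O.orb_inv hk ht

theorem Out.LL_J : LL T σ (Jm Xr m) := ⟨fun e => O.mem (by rw [e]; trivial), O.inv⟩

/-- **Simply laced.** -/
theorem Out.false_laced [Finite Mx.Group] (hM : Typ.Laced Mx) (hc : IsCartan Mx Ac) : False := by
  refine O.bad (good_of_laced (fun a b hab => ?_) O.LL_J O.exists_LL)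
  have h1 := hM a b
  rcases hc.rel a b hab with h2 | h2 | h2 | h2
  · exact Or.inl h2.1
  · exact Or.inr h2.1
  · omega
  · omega

end one

section B

variable {X : Type u} [Group X] [Finite X] {M : Type v} [Group M] [Finite M] [MulDistribMulAction X M]
  {W : Type w} [CommGroup W] [Finite W] [MulDistribMulAction X W] {p : W →* M}
  {K T A : Subgroup X} {m : M} {l : ℕ} {Ac : Fin l → Fin l → ℤ} {h : IsCartan (CoxeterMatrix.B l) Ac}
  {Tor : Subgroup K} {n : Fin l → K} {Xr : (Fin l → ℤ) → Subgroup K} {σ : X → Fin l → Fin l} {i : Fin l}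

/-- type `B_l`, `l ≥ 3` -/
theorem Out.eq_B (hl : 3 ≤ l) (O : Out T (CoxeterMatrix.B l) Xr m σ i) : Jm Xr m = {k : Fin l | (k : ℕ) ≠ 0} := by
  by_contra hne
  refine O.bad (goodB _ hl (fun L hL => ⟨hL, fun t _ j hj => ?_⟩) O.mem hne)
  rw [sigB hl (O.sg.mat t)]
  exact hj

theorem adj_B {i j : Fin l} (hij : (i : ℕ) + 1 = j) : i ≠ j ∧ CoxeterMatrix.B l i j ≠ 2 ∧
    CoxeterMatrix.B l j i ≠ 2 := by
  have h1 : i ≠ j := fun e => by rw [e] at hij; omega
  refine ⟨h1, ?_, ?_⟩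
  · rw [B_apply h1]; split_ifs <;> omega
  · rw [B_apply h1.symm]; split_ifs <;> omega

/-- **type `B_l`, `l ≥ 3`, with `CommGen`** -/
theorem Out.false_B (hl : 3 ≤ l) (O : Out T (CoxeterMatrix.B l) Xr m σ i) (hI : InX X M K T A) (hw : WPart K T p)
    (hL : LA X M T A m) (hR : RF K T h Tor n Xr) {pf : Fin l → Prop} (hD : Dt h Tor n Xr pf) : False := by
  have hJ := O.eq_B hl
  refine false_of_adj hI hw hL hR hD.comm fun k => Or.inl ?_
  rw [hJ]
  rcases Nat.lt_or_ge (k : ℕ) 2 with h2 | h2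
  · have h3 : (k : ℕ) + 1 < l := by omega
    obtain ⟨h4, h5, -⟩ := adj_B (l := l) (i := k) (j := ⟨k + 1, h3⟩) rfl
    exact ⟨⟨k + 1, h3⟩, by simp, h4, h5⟩
  · have h3 : (k : ℕ) - 1 < l := by omega
    obtain ⟨h4, -, h5⟩ := adj_B (l := l) (i := ⟨k - 1, h3⟩) (j := k) (by simp; omega)
    exact ⟨⟨k - 1, h3⟩, by simp; omega, h4.symm, h5⟩

end B

section two

variable {X : Type u} [Group X] [Finite X] {M : Type v} [Group M] [Finite M] [MulDistribMulAction X M]
  {W : Type w} [CommGroup W] [Finite W] [MulDistribMulAction X W] {p : W →* M}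
  {K T A : Subgroup X} {m : M} {Mx : CoxeterMatrix (Fin 2)} {Ac : Fin 2 → Fin 2 → ℤ} {h : IsCartan Mx Ac}
  {Tor : Subgroup K} {n : Fin 2 → K} {Xr : (Fin 2 → ℤ) → Subgroup K} {σ : X → Fin 2 → Fin 2} {i : Fin 2}

/-- rank two: one node fixes `m`, one moves it -/
theorem Out.two_cases (O : Out T Mx Xr m σ i) : Jm Xr m = {0} ∨ Jm Xr m = {1} := by
  obtain ⟨j, hj⟩ := O.nonempty
  have hi := O.mem
  have hij : i ≠ j := fun e => hi (by rw [e]; exact hj)
  have h2 : ∀ a : Fin 2, a = 0 ∨ a = 1 := by decide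
  rcases h2 i with rfl | rfl <;> rcases h2 j with rfl | rfl
  · exact absurd rfl hij
  · right
    ext k
    rcases h2 k with rfl | rfl <;> simp [hj, hi]
  · left
    ext k
    rcases h2 k with rfl | rfl <;> simp [hj, hi]
  · exact absurd rfl hij

/-- **rank two, the fixing node is perfect** -/
theorem Out.false_two (_O : Out T Mx Xr m σ i) (hM : Mx 0 1 ≠ 2) (hI : InX X M K T A) (hw : WPart K T p)
    (hL : LA X M T A m) (hR : RF K T h Tor n Xr) {pf : Fin 2 → Prop} (hD : Dt h Tor n Xr pf) {j : Fin 2}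
    (hJ : Jm Xr m = {j}) (hj : pf j) : False := by
  have h2 : ∀ a : Fin 2, a = 0 ∨ a = 1 := by decide
  refine false_of_adj hI hw hL hR hD.comm fun k => ?_
  rw [hJ]
  by_cases hk : k = j
  · subst hk
    exact Or.inr ⟨rfl, hD.perf k hj⟩
  · refine Or.inl ⟨j, rfl, hk, ?_⟩
    rcases h2 k with rfl | rfl <;> rcases h2 j with rfl | rfl
    · exact absurd rfl hk
    · exact hM
    · rw [Mx.symmetric]; exact hM
    · exact absurd rfl hk

end two

section F

variable {X : Type u} [Group X] [Finite X] {M : Type v} [Group M] [Finite M] [MulDistribMulAction X M]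
  {W : Type w} [CommGroup W] [Finite W] [MulDistribMulAction X W] {p : W →* M}
  {K T A : Subgroup X} {m : M} {Ac : Fin 4 → Fin 4 → ℤ} {h : IsCartan CoxeterMatrix.F₄ Ac}
  {Tor : Subgroup K} {n : Fin 4 → K} {Xr : (Fin 4 → ℤ) → Subgroup K} {σ : X → Fin 4 → Fin 4} {i : Fin 4}

/-- type `F₄`: `T` contains a graph automorphism, the middle nodes fix `m` -/
theorem Out.eq_F (O : Out T CoxeterMatrix.F₄ Xr m σ i) :
    Jm Xr m = {1, 2} ∧ Nat.card (Xr (sr 0)) = Nat.card (Xr (sr 3)) := by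
  by_cases hid : ∀ t ∈ T, ∀ j, σ t j = j
  · exact absurd (goodF _ (fun L hL => ⟨hL, fun t ht j hj => by rw [hid t ht]; exact hj⟩) O.mem) O.bad
  push Not at hid
  obtain ⟨t, ht, j, hj⟩ := hid
  have hf : ∀ k, σ t k = flip k := (sigF (O.sg.mat t)).resolve_left fun h1 => hj (h1 j)
  have hcard : Nat.card (Xr (sr 0)) = Nat.card (Xr (sr 3)) := by
    have h1 := O.sg.card t 3
    rw [hf] at h1
    exact h1
  refine ⟨?_, hcard⟩
  have hinv : ∀ k ∈ Jm Xr m, flip k ∈ Jm Xr m := fun k hk => by rw [← hf]; exact O.inv t ht k hk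
  have hall : ∀ s ∈ T, ∀ k, σ s k = k ∨ σ s k = flip k := fun s _ k => by
    rcases sigF (O.sg.mat s) with h1 | h1
    · exact Or.inl (h1 k)
    · exact Or.inr (h1 k)
  have horb : ∀ k, k ∉ Jm Xr m → k = i ∨ k = flip i := fun k hk => by
    obtain ⟨s, hs, e⟩ := O.orb k hk
    rcases hall s hs i with h1 | h1
    · exact Or.inl (e.symm.trans h1)
    · exact Or.inr (e.symm.trans h1)
  have hii : flip i ∉ Jm Xr m := fun h1 => O.mem (by
    have h2 := hinv _ h1
    have h3 : ∀ k : Fin 4, flip (flip k) = k := by decide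
    rwa [h3] at h2)
  have h03 : LL T σ ({0, 3} : Set (Fin 4)) := by
    refine ⟨fun e => ?_, fun s hs k hk => ?_⟩
    · have h1 : (1 : Fin 4) ∈ ({0, 3} : Set (Fin 4)) := by rw [e]; trivial
      simp at h1
    · rcases hall s hs k with h1 | h1
      · rw [h1]; exact hk
      · rw [h1]
        rcases hk with rfl | rfl
        · right; rfl
        · left; rfl
  have h12 : LL T σ ({1, 2} : Set (Fin 4)) := by
    refine ⟨fun e => ?_, fun s hs k hk => ?_⟩
    · have h1 : (0 : Fin 4) ∈ ({1, 2} : Set (Fin 4)) := by rw [e]; trivial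
      simp at h1
    · rcases hall s hs k with h1 | h1
      · rw [h1]; exact hk
      · rw [h1]
        rcases hk with rfl | rfl
        · right; rfl
        · left; rfl
  have h4 : ∀ a : Fin 4, a = 0 ∨ a = 1 ∨ a = 2 ∨ a = 3 := by decide
  have key : Jm Xr m = {k | k ≠ i ∧ k ≠ flip i} := by
    ext k
    constructor
    · intro hk
      exact ⟨fun e => O.mem (by rw [← e]; exact hk), fun e => hii (by rw [← e]; exact hk)⟩
    · rintro ⟨h1, h2⟩
      by_contra hk
      rcases horb k hk with h3 | h3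
      · exact h1 h3
      · exact h2 h3
  rcases h4 i with rfl | rfl | rfl | rfl
  · rw [key]
    ext k
    have : ∀ k : Fin 4, (k ≠ 0 ∧ k ≠ flip 0) ↔ (k = 1 ∨ k = 2) := by decide
    exact this k
  · exfalso
    have hJ : Jm Xr m = {0, 3} := by
      rw [key]
      ext k
      have : ∀ k : Fin 4, (k ≠ 1 ∧ k ≠ flip 1) ↔ (k = 0 ∨ k = 3) := by decide
      exact this k
    have hb := O.bad
    rw [hJ] at hb
    exact hb (goodF_graph _ h03 h12 (Or.inl rfl))
  · exfalso
    have hJ : Jm Xr m = {0, 3} := by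
      rw [key]
      ext k
      have : ∀ k : Fin 4, (k ≠ 2 ∧ k ≠ flip 2) ↔ (k = 0 ∨ k = 3) := by decide
      exact this k
    have hb := O.bad
    rw [hJ] at hb
    exact hb (goodF_graph _ h03 h12 (Or.inr rfl))
  · rw [key]
    ext k
    have : ∀ k : Fin 4, (k ≠ 3 ∧ k ≠ flip 3) ↔ (k = 1 ∨ k = 2) := by decide
    exact this k

/-- **`F₄` with `CommGen`** -/
theorem Out.false_F (O : Out T CoxeterMatrix.F₄ Xr m σ i) (hI : InX X M K T A) (hw : WPart K T p)
    (hL : LA X M T A m) (hR : RF K T h Tor n Xr) {pf : Fin 4 → Prop} (hD : Dt h Tor n Xr pf) : False := by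
  obtain ⟨hJ, -⟩ := O.eq_F
  refine false_of_adj hI hw hL hR hD.comm fun k => Or.inl ?_
  rw [hJ]
  have h4 : ∀ a : Fin 4, a = 0 ∨ a = 1 ∨ a = 2 ∨ a = 3 := by decide
  have hd : CoxeterMatrix.F₄ 0 1 ≠ 2 ∧ CoxeterMatrix.F₄ 1 2 ≠ 2 ∧ CoxeterMatrix.F₄ 2 1 ≠ 2 ∧
      CoxeterMatrix.F₄ 3 2 ≠ 2 := by decide
  rcases h4 k with rfl | rfl | rfl | rfl
  · exact ⟨1, Or.inl rfl, by decide, hd.1⟩
  · exact ⟨2, Or.inr rfl, by decide, hd.2.1⟩
  · exact ⟨1, Or.inl rfl, by decide, hd.2.2.1⟩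
  · exact ⟨2, Or.inr rfl, by decide, hd.2.2.2⟩

end F

/-! ### The leaves -/

/-- the end node of `B_l` moves `m`, the last root group contains at most one involution (helper221) -/
def FiveI : Prop :=
  ∀ (X : Type u) [Group X] [Finite X] (M : Type v) [Group M] [Finite M] [MulDistribMulAction X M]
    (K T A : Subgroup X) (m : M) (l : ℕ) (Ac : Fin l → Fin l → ℤ)
    (h : IsCartan (CoxeterMatrix.B l) Ac) (Tor : Subgroup K) (n : Fin l → K) (Xr : (Fin l → ℤ) → Subgroup K),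
    2 ≤ l → InX X M K T A → LA X M T A m → RF K T h Tor n Xr →
    (∀ i : Fin l, (i : ℕ) + 1 = l → inv2 (Xr (sr i)) < 4) → Jm Xr m = {k : Fin l | (k : ℕ) ≠ 0} → False

/-- `F₄(2)`, the middle nodes fix `m`, for every root group datum (helper115) -/
def FFourTwo : Prop :=
  ∀ (X : Type u) [Group X] [Finite X] (M : Type v) [Group M] [Finite M] [MulDistribMulAction X M]
    (W : Type w) [CommGroup W] [Finite W] [MulDistribMulAction X W] (K T A : Subgroup X) (p : W →* M) (m : M),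
    InX X M K T A → WPart K T p → LA X M T A m →
    (∃ (F : Type) (_ : Field F) (_ : Fintype F), CharP F 2 ∧ Fintype.card F = 2 ∧
      Nonempty (K ≃* Lie.chevF4.group F)) →
    (∀ (Ac : Fin 4 → Fin 4 → ℤ) (h : IsCartan CoxeterMatrix.F₄ Ac) (Tor : Subgroup K) (n : Fin 4 → K)
      (Xr : (Fin 4 → ℤ) → Subgroup K), RF K T h Tor n Xr → Jm Xr m = {1, 2}) → False

/-- **The leaves.** -/
structure Leaves : Prop where
  wall : WallT.{u, v}
  five : FiveI.{u, v}
  f42 : FFourTwo.{u, v, w}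
  d42 : DeadXL.{u, v, w} fun S _ => ∃ (F : Type) (_ : Field F) (_ : Fintype F), CharP F 2 ∧ Fintype.card F = 8 ∧
    Nonempty (S ≃* Lie.twistedD4 F 2)
  sz : DeadXL.{u, v, w} fun S _ => Lie.IsoSuzuki S
  tf : DeadXL.{u, v, w} fun S _ => Lie.Iso2F4 S
  psp : ∀ (F : Type) [Field F] [Fintype F] [CharP F 2] (m : ℕ), 2 ≤ m → 2 < Fintype.card F →
    HasDt (CoxeterMatrix.B m) (fun _ => True) (PSp m F)
  psp2 : ∀ (F : Type) [Field F] [Fintype F] [CharP F 2] (m : ℕ), 3 ≤ m → Fintype.card F = 2 →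
    HasRc (CoxeterMatrix.B m) (fun c => ∀ i : Fin m, (i : ℕ) + 1 = m → c i < 4) (PSp m F)
  psu : ∀ (F : Type) [Field F] [Fintype F] [CharP F 2] (N q : ℕ), Fintype.card F = q ^ 2 → 4 ≤ N →
    ∃ l, 2 ≤ l ∧ (N = 2 * l ∨ N = 2 * l + 1) ∧
      HasDt (CoxeterMatrix.B l) (fun i : Fin l => (i : ℕ) + 1 < l ∨ 2 < q) (PSU N F q)
  psu2 : ∀ (F : Type) [Field F] [Fintype F] [CharP F 2] (N : ℕ), Fintype.card F = 4 → N = 4 ∨ N = 5 →
    HasDi (CoxeterMatrix.B 2) (fun i => i = 0) (fun c => c 1 < 4) (PSU N F 2)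
  g2 : ∀ (F : Type) [Field F] [Fintype F] [CharP F 2], 4 ≤ Fintype.card F →
    HasDt CoxeterMatrix.G₂ (fun _ => True) ↥(Lie.chevG2.group F)
  d4 : ∀ (F : Type) [Field F] [Fintype F] [CharP F 2] (q : ℕ), IsPrimePow q → Fintype.card F = q ^ 3 → 4 ≤ q →
    HasDt CoxeterMatrix.G₂ (fun _ => True) ↥(Lie.twistedD4 F q)
  f4 : ∀ (F : Type) [Field F] [Fintype F] [CharP F 2], 4 ≤ Fintype.card F →
    HasDt CoxeterMatrix.F₄ (fun _ => False) ↥(Lie.chevF4.group F)
  e6 : ∀ (F : Type) [Field F] [Fintype F] [CharP F 2] (q : ℕ), IsPrimePow q → Fintype.card F = q ^ 2 →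
    HasRc CoxeterMatrix.F₄ (fun c => c 0 ≠ c 3) ↥(Lie.twistedE6 F q)

section main

variable {X : Type u} [Group X] [Finite X] {M : Type v} [Group M] [Finite M] [MulDistribMulAction X M]
  {W : Type w} [CommGroup W] [Finite W] [MulDistribMulAction X W] {K T A : Subgroup X} {p : W →* M} {m : M}

/-- simply laced types -/
theorem false_of_laced (wall : WallT.{u, v}) (hI : InX X M K T A) (hL : LA X M T A m) {l : ℕ}
    {Mx : CoxeterMatrix (Fin l)} (hl : 0 < l) (hM : Typ.Laced Mx) (hG : Typ.HasRGDT 2 Mx K) : False := by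
  obtain ⟨Ac, h, Tor, n, Xr, hW, R, hX⟩ := hG
  have R' : Rg h Tor n Xr := { fin := hW, rgd := R, gen := hX }
  obtain ⟨g, hg⟩ := R'.exists_rf hI.norm hI.two hI.syl
  obtain ⟨σ, i, O⟩ := exists_out wall hl hI hL hg
  exact O.false_laced hM h

/-- type `B_l`, `l ≥ 3`, with `CommGen` -/
theorem false_of_B (wall : WallT.{u, v}) (hI : InX X M K T A) (hw : WPart K T p) (hL : LA X M T A m) {l : ℕ}
    (hl : 3 ≤ l) {pf : Fin l → Prop} (hG : HasDt (CoxeterMatrix.B l) pf K) : False := by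
  obtain ⟨Ac, h, Tor, n, Xr, hR, hD⟩ := hG.exists_rf hI.norm hI.two hI.syl
  obtain ⟨σ, i, O⟩ := exists_out wall (by omega) hI hL hR
  exact O.false_B hl hI hw hL hR hD

theorem mx_B2 : CoxeterMatrix.B 2 0 1 ≠ 2 := by decide

theorem mx_G2 : CoxeterMatrix.G₂ 0 1 ≠ 2 := by decide

/-- rank two, both nodes perfect -/
theorem false_of_two (wall : WallT.{u, v}) (hI : InX X M K T A) (hw : WPart K T p) (hL : LA X M T A m)
    {Mx : CoxeterMatrix (Fin 2)} (hM : Mx 0 1 ≠ 2) {pf : Fin 2 → Prop} (hpf : ∀ i, pf i) (hG : HasDt Mx pf K) :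
    False := by
  obtain ⟨Ac, h, Tor, n, Xr, hR, hD⟩ := hG.exists_rf hI.norm hI.two hI.syl
  obtain ⟨σ, i, O⟩ := exists_out wall (by omega) hI hL hR
  rcases O.two_cases with hJ | hJ
  · exact O.false_two hM hI hw hL hR hD hJ (hpf 0)
  · exact O.false_two hM hI hw hL hR hD hJ (hpf 1)

/-- **The Lie(2) row.** -/
theorem Leaves.lie2 (P : Leaves.{u, v, w}) : DeadXL.{u, v, w} fun S _ => IsLieTypeChar 2 S := by
  intro X _ _ M _ _ _ W _ _ _ K T A p m hI hw hL hK
  have htwo : ∀ (F : Type) [Field F] [Fintype F] [CharP F 2], ∃ k, 0 < k ∧ Fintype.card F = 2 ^ k := by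
    intro F _ _ _
    obtain ⟨k, -, hk⟩ := FiniteField.card F 2
    exact ⟨k, k.pos, hk⟩
  rcases hK with hK | hK | hK | hK | hK | hK | hK | hK | hK | hK | hK
  · obtain ⟨n, hn, h⟩ := Typ.typ_of_PSL hK
    exact false_of_laced P.wall hI hL hn (Typ.laced_cA n) h
  · obtain ⟨F, _, _, _, n, hn, hn2, ⟨e⟩⟩ := hK
    obtain ⟨k, hk, hc⟩ := htwo F
    rcases Nat.lt_or_ge 2 (Fintype.card F) with h2 | h2
    · have hD := (P.psp F n hn h2).of_equiv e.symm
      rcases Nat.lt_or_ge n 3 with h3 | h3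
      · obtain rfl : n = 2 := by omega
        exact false_of_two P.wall hI hw hL mx_B2 (fun _ => trivial) hD
      · exact false_of_B P.wall hI hw hL h3 hD
    · have h2' : Fintype.card F = 2 := by
        have h4 := Nat.one_lt_two_pow hk.ne'
        omega
      have h3 : 3 ≤ n := by
        by_contra hcon
        have := hn2 (by omega)
        omega
      obtain ⟨Ac, h, Tor, nn, Xr, hR, hP⟩ := ((P.psp2 F n h3 h2').of_equiv e.symm).exists_rf hI.norm hI.two hI.syl
      obtain ⟨σ, i, O⟩ := exists_out P.wall (by omega) hI hL hR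
      exact P.five X M K T A m n Ac h Tor nn Xr hn hI hL hR (fun i hi => (inv2_le _).trans_lt (hP i hi)) (O.eq_B h3)
  · obtain ⟨F, _, _, _, n, q, hF, hn, hq, ⟨e⟩⟩ := hK
    rcases Nat.lt_or_ge n 4 with h4 | h4
    · obtain rfl : n = 3 := by omega
      have : Fact (Nat.Prime 2) := ⟨Nat.prime_two⟩
      obtain ⟨l, hl, h⟩ := Typ.typ_PSU (p := 2) hF hn
      obtain rfl : l = 1 := by omega
      exact false_of_laced P.wall hI hL one_pos (Typ.laced_of_one _) (h.of_equiv e.symm)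
    · obtain ⟨l, hl, hN, hD⟩ := P.psu F n q hF h4
      rcases Nat.lt_or_ge l 3 with h3 | h3
      · obtain rfl : l = 2 := by omega
        rcases Nat.lt_or_ge 2 q with h2 | h2
        · exact false_of_two P.wall hI hw hL mx_B2 (fun _ => Or.inr h2) (hD.of_equiv e.symm)
        · -- `q = 2`
          obtain ⟨k, hk, hc⟩ := htwo F
          have hq2 : q = 2 := by
            have h5 : 1 < Fintype.card F := Fintype.one_lt_card
            rw [hF] at h5
            interval_cases q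
            · simp at h5
            · simp at h5
            · rfl
          subst hq2
          have hF4 : Fintype.card F = 4 := by rw [hF]; norm_num
          have hJ1 : (Set.singleton (1 : Fin 2)) = {k : Fin 2 | (k : ℕ) ≠ 0} := by
            ext k
            have : ∀ k : Fin 2, k = 1 ↔ (k : ℕ) ≠ 0 := by decide
            exact this k
          obtain ⟨Ac, h, Tor, nn, Xr, hR, hD, hP⟩ :=
            ((P.psu2 F n hF4 (by omega)).of_equiv e.symm).exists_rf hI.norm hI.two hI.syl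
          obtain ⟨σ, i, O⟩ := exists_out P.wall (by omega) hI hL hR
          rcases O.two_cases with hJ | hJ
          · exact O.false_two mx_B2 hI hw hL hR hD hJ rfl
          · refine P.five X M K T A m 2 Ac h Tor nn Xr le_rfl hI hL hR ?_ (hJ.trans hJ1)
            intro i hi
            obtain rfl : i = 1 := Fin.ext (by simpa using hi)
            exact hP
      · exact false_of_B P.wall hI hw hL h3 (hD.of_equiv e.symm)
  · exfalso
    obtain ⟨F, _, _, _, n, -, ho, -⟩ := hK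
    obtain ⟨k, hk, hc⟩ := htwo F
    rw [hc] at ho
    exact absurd ho (by rw [Nat.not_odd_iff_even]; exact even_two.pow_of_ne_zero hk.ne')
  · obtain ⟨F, _, _, _, n, hn, ⟨e⟩⟩ := hK
    have : Fact (Nat.Prime 2) := ⟨Nat.prime_two⟩
    obtain ⟨n, rfl⟩ : ∃ k, n = k + 3 := ⟨n - 3, by omega⟩
    exact false_of_laced P.wall hI hL (by omega) (Typ.laced_D _) ((Typ.typ_PO_plus n).of_equiv e.symm)
  · obtain ⟨l, hl, h⟩ := DatOmm.cg_of_minus hK
    exact false_of_B P.wall hI hw hL hl (HasCG.dt h)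
  · obtain ⟨F, _, _, _, hK⟩ := hK
    obtain ⟨k, hk, hc⟩ := htwo F
    have : Fact (Nat.Prime 2) := ⟨Nat.prime_two⟩
    rcases hK with ⟨h3, ⟨e⟩⟩ | ⟨⟨e⟩⟩ | ⟨⟨e⟩⟩ | ⟨⟨e⟩⟩ | ⟨⟨e⟩⟩
    · have h4 : 4 ≤ Fintype.card F := by
        rw [hc] at h3 ⊢
        match k, h3 with
        | 0, h3 => simp at h3
        | 1, h3 => simp at h3
        | k + 2, _ => rw [pow_add]; have := Nat.one_le_two_pow (n := k); omega
      exact false_of_two P.wall hI hw hL mx_G2 (fun _ => trivial) ((P.g2 F h4).of_equiv e.symm)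
    · rcases Nat.lt_or_ge (Fintype.card F) 4 with h4 | h4
      · have h2 : Fintype.card F = 2 := by
          rw [hc] at h4 ⊢
          match k, hk, h4 with
          | 1, _, _ => rfl
          | k + 2, _, h4 => exfalso; rw [pow_add] at h4; have := Nat.one_le_two_pow (n := k); omega
        refine P.f42 X M W K T A p m hI hw hL ⟨F, _, _, inferInstance, h2, ⟨e⟩⟩ ?_
        intro Ac h Tor n Xr hR
        obtain ⟨σ, i, O⟩ := exists_out P.wall (by omega) hI hL hR
        exact O.eq_F.1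
      · obtain ⟨Ac, h, Tor, n, Xr, hR, hD⟩ := ((P.f4 F h4).of_equiv e.symm).exists_rf hI.norm hI.two hI.syl
        obtain ⟨σ, i, O⟩ := exists_out P.wall (by omega) hI hL hR
        exact O.false_F hI hw hL hR hD
    · exact false_of_laced P.wall hI hL (by omega) Typ.laced_E6
        ((Typ.typ_group (by simp [IsType, typeList]) F 2).of_equiv e.symm)
    · exact false_of_laced P.wall hI hL (by omega) Typ.laced_E7
        ((Typ.typ_group (by simp [IsType, typeList]) F 2).of_equiv e.symm)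
    · exact false_of_laced P.wall hI hL (by omega) Typ.laced_E8
        ((Typ.typ_group (by simp [IsType, typeList]) F 2).of_equiv e.symm)
  · obtain ⟨F, _, _, _, q, hq, hK⟩ := hK
    rcases hK with ⟨hF, ⟨e⟩⟩ | ⟨hF, ⟨e⟩⟩
    · obtain ⟨Ac, h, Tor, n, Xr, hR, hP⟩ := ((P.e6 F q hq hF).of_equiv e.symm).exists_rf hI.norm hI.two hI.syl
      obtain ⟨σ, i, O⟩ := exists_out P.wall (by omega) hI hL hR
      exact hP O.eq_F.2
    · rcases Nat.lt_or_ge q 4 with h4 | h4
      · have hq2 : q = 2 := by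
          obtain ⟨k, hk, hc⟩ := htwo F
          have h1 : 1 < q := hq.one_lt
          have h2 : q ≠ 3 := by
            rintro rfl
            rw [hF] at hc
            have h5 : Even (3 ^ 3 : ℕ) := by rw [hc]; exact even_two.pow_of_ne_zero hk.ne'
            revert h5; decide
          omega
        subst hq2
        exact P.d42 X M W K T A p m hI hw hL ⟨F, _, _, inferInstance, by rw [hF]; norm_num, ⟨e⟩⟩
      · exact false_of_two P.wall hI hw hL mx_G2 (fun _ => trivial) ((P.d4 F q hq hF h4).of_equiv e.symm)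
  · exact P.sz X M W K T A p m hI hw hL hK.2
  · exact P.tf X M W K T A p m hI hw hL hK.2
  · exact absurd hK.1 (by norm_num)

end main

end Cfsg.Agent.Omega.ML.Ex.Lie2
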