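import Cfsg.Agent.Omega.ML.Ex.Typ.Par

/-!
# The number of involutions of the last root group, diagram `B_m` (helper218, for helper221)

`u ∈ X (α_m)` with `u * u = 1`: at most `q` of them, for the models of `PSp_{2m}(q)` and `PSU_N(q)`, `N = 2m, 2m + 1`,
`q` even (for `N = 2m + 1` the root group has order `q ^ 3`, and its involutions are the central ones).

* `eq_one_of_Z` : `φ (Z p) = 1` implies `p = 1`;
* `iv_le` : the general statement, for a model in characteristic two;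
* **`iv_Sp`**, **`iv_U`** : the two families.
-/

set_option autoImplicit false
set_option linter.unusedSectionVars false

namespace Cfsg.Agent.Omega.ML.Ex.Lie2.SemiDat

open Cfsg
open CoxeterSystem Cfsg.Agent.ChevalleyStructure.CoxeterGeom Cfsg.Agent.Tits.Roots
  Cfsg.Agent.Nodes.Comb Cfsg.Agent.Nodes.Reps Cfsg.Agent.Nodes.BNOf
  Cfsg.Agent.Nodes.RGDLib Cfsg.Agent.Nodes.TypeC
open Cfsg.Agent.Nodes Cfsg.Agent.Nodes.WittAll Cfsg.Agent.Nodes.WittU Cfsg.Agent.Nodes.WittInst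
  Cfsg.Agent.Nodes.WittRoot Cfsg.Agent.Nodes.WittRGD
  Cfsg.Agent.TitsThree Cfsg.Agent.TitsThree.Siegel Cfsg.Agent.TitsThree.SiegelGen
  Cfsg.Agent.TitsThree.WittFrame Cfsg.Agent.TitsThree.WBridge Cfsg.Agent.TitsThree.WittWeyl
  Cfsg.Agent.TitsThree.FrameCN Cfsg.Agent.TitsThree.LineBorel

/-- the number of elements `u` of `R` with `u * u = 1` -/
noncomputable def iv {Y : Type*} [Group Y] (R : Subgroup Y) : ℕ := Nat.card {u : Y // u ∈ R ∧ u * u = 1}

theorem iv_map {Y Z : Type*} [Group Y] [Group Z] (f : Y →* Z) (hf : Function.Injective f) (R : Subgroup Y) :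
    iv (R.map f) = iv R := by
  unfold iv
  symm
  refine Nat.card_congr (Equiv.ofBijective
    (fun u : {u : Y // u ∈ R ∧ u * u = 1} => (⟨f u.1, ⟨u.1, u.2.1, rfl⟩, by rw [← map_mul, u.2.2, map_one]⟩ :
      {u : Z // u ∈ R.map f ∧ u * u = 1})) ⟨?_, ?_⟩)
  · intro a b hab
    exact Subtype.ext (hf (congrArg (fun z => (z.1 : Z)) hab))
  · rintro ⟨_, ⟨u, hu, rfl⟩, h⟩
    refine ⟨⟨u, hu, hf ?_⟩, rfl⟩
    rw [map_mul, h, map_one]

section general

variable {F : Type*} [Field F] {V : Type*} [AddCommGroup V] [Module F V] {H : HForm F V} {n : ℕ}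
  {Fr : Frame H (Fin n)} {K : Type*} [Group K] (M : Model Fr K)

/-- `φ` is injective on the root groups -/
theorem eq_one_of_Z {x : Fin n × Bool} {p : Fr.Adm} (hp : M.φ ⟨Fr.Z x p, M.hZ x p⟩ = 1) : p = 1 := by
  obtain ⟨a, ha⟩ := M.ker (Fr.b (neg x)) _ hp
  have h1 : Fr.b (neg x) + Fr.η x • p.w + (p.c * Fr.η x) • Fr.b x = a • Fr.b (neg x) := by
    rw [← Z_apply_neg]; exact ha
  -- pairing with `b x`
  have h2 : Fr.η x = a * Fr.η x := by
    have h3 := congrArg (fun v => H.h v (Fr.b x)) h1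
    simp only [H.add_left, H.smul_left, Fr.hb_neg_self, Fr.h0' x (Fr.ok_mem p.ok), Fr.hb_self, mul_zero, add_zero] at h3
    exact h3
  have ha1 : a = 1 := by
    have h3 : (1 - a) * Fr.η x = 0 := by rw [sub_mul, one_mul, ← h2, sub_self]
    rcases mul_eq_zero.1 h3 with h4 | h4
    · exact (sub_eq_zero.1 h4).symm
    · exact absurd h4 (Fr.η_ne x)
  rw [ha1, one_smul, add_assoc, add_eq_left] at h1
  -- pairing with `b (neg x)`
  have hc : p.c = 0 := by
    have h3 := congrArg (fun v => H.h v (Fr.b (neg x))) h1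
    simp only [H.add_left, H.smul_left, Fr.h0' (neg x) (Fr.ok_mem p.ok), mul_zero, zero_add, H.zero_left,
      Fr.hb_self_neg] at h3
    rcases mul_eq_zero.1 h3 with h4 | h4
    · rcases mul_eq_zero.1 h4 with h5 | h5
      · exact h5
      · exact absurd h5 (Fr.η_ne x)
    · exact absurd h4 (Fr.η_ne (neg x))
  have hw : p.w = 0 := by
    rw [hc, zero_mul, zero_smul, add_zero] at h1
    exact (smul_eq_zero.1 h1).resolve_left (Fr.η_ne x)
  exact Frame.Adm.ext hw hc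

/-- **The number of involutions of the last root group**, characteristic two, anisotropic `V0`. -/
theorem iv_le [CharP F 2] [Finite F] (hn : 0 < n) (hV : ∀ w ∈ Fr.V0, H.h w w = 0 → w = 0) {q : ℕ}
    (hq : Nat.card {c : F // Fr.ok 0 c} ≤ q) :
    Nat.card {u : K // u ∈ WittModel.X M (sr ⟨n - 1, by omega⟩) ∧ u * u = 1} ≤ q := by
  have hnx : nx (⟨n - 1, by omega⟩ : Fin n) = (⟨n - 1, by omega⟩, true) := by
    unfold nx; rw [dif_neg (by simp; omega)]
  have hmem : ∀ u : K, u ∈ WittModel.X M (sr ⟨n - 1, by omega⟩) → u * u = 1 →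
      ∃ c : F, ∃ hc : Fr.ok 0 c, M.φ ⟨Fr.Z (⟨n - 1, by omega⟩, true) ⟨0, c, hc⟩, M.hZ _ _⟩ = u := by
    rintro _ ⟨⟨g, hgI⟩, hg, rfl⟩ hu
    have h1 : g ∈ rg Fr (sr ⟨n - 1, by omega⟩) := hg
    rw [rg_sr, hnx, PG_self] at h1
    obtain ⟨a, rfl⟩ := h1
    have h2 : a * a = 1 := by
      apply eq_one_of_Z M (x := (⟨n - 1, by omega⟩, true))
      rw [← hu, ← map_mul]
      congr 1
      exact Subtype.ext (Fr.Z_mul _ a a)
    have h3 : H.h a.w a.w = 0 := by
      have h4 := congrArg Frame.Adm.c h2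
      rw [Frame.Adm.mul_c, Frame.Adm.one_c, CharTwo.add_self_eq_zero, zero_sub, neg_eq_zero] at h4
      exact (mul_eq_zero.1 h4).resolve_left (inv_ne_zero H.ε_ne)
    have h4 : a.w = 0 := hV _ (Fr.ok_mem a.ok) h3
    have h5 : Fr.ok 0 a.c := by rw [← h4]; exact a.ok
    refine ⟨a.c, h5, ?_⟩
    congr 1
    apply Subtype.ext
    change Fr.Z (⟨n - 1, by omega⟩, true) ⟨0, a.c, h5⟩ = Fr.Z (⟨n - 1, by omega⟩, true) a
    congr 1
    exact Frame.Adm.ext h4.symm rfl
  choose! f hf hf' using hmem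
  refine le_trans (Nat.card_le_card_of_injective
    (fun u : {u : K // u ∈ WittModel.X M (sr ⟨n - 1, by omega⟩) ∧ u * u = 1} =>
      (⟨f u.1, hf u.1 u.2.1 u.2.2⟩ : {c : F // Fr.ok 0 c})) ?_) hq
  intro u v huv
  have e : f u.1 = f v.1 := congrArg (fun z => (z.1 : F)) huv
  have h1 := hf' u.1 u.2.1 u.2.2
  have h2 := hf' v.1 v.2.1 v.2.2
  apply Subtype.ext
  rw [← h1, ← h2]
  congr 1
  apply Subtype.ext
  change Fr.Z _ _ = Fr.Z _ _
  congr 1
  exact Frame.Adm.ext rfl e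

end general

/-- **`PSp_{2m}(F)`** -/
theorem iv_Sp {F : Type*} [Field F] [Finite F] [CharP F 2] {m : ℕ} (hm : 0 < m) :
    Nat.card {u : PSp m F // u ∈ WittModel.X (KInstSp.model m F) (sr ⟨m - 1, by omega⟩) ∧ u * u = 1} ≤ Nat.card F :=
  iv_le (KInstSp.model m F) hm (fun _ hw _ => (Submodule.mem_bot F).1 hw)
    (Nat.card_le_card_of_injective (fun c => c.1) Subtype.val_injective)

section unitary

open Cfsg.Agent.LieClassical.HermBasic Cfsg.Agent.TitsThree.KSideU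

variable {F : Type*} [Field F] [Fintype F] {q N : ℕ} (hF : Fintype.card F = q ^ 2)

/-- **`PSU_N(q)`** -/
theorem iv_U [CharP F 2] (hN : 3 ≤ N) {m : ℕ} (hm : 0 < m) (W : WFrame (PU hF N) m) :
    Nat.card {u : PSU N F q // u ∈ WittModel.X (KInstU.model hF hN W) (sr ⟨m - 1, by omega⟩) ∧ u * u = 1} ≤ q :=
  iv_le (KInstU.model hF hN W) hm (fun w hw h => W.aniso w hw ((sing_iff hF).2 h)) (Typ.card_ok_le hF W 0)

end unitary

end Cfsg.Agent.Omega.ML.Ex.Lie2.SemiDat
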