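import Cfsg.Agent.Omega.ML.Ex.Lie2.DataB
import Cfsg.Agent.Omega.ML.Ex.Lie2.SemiDat

/-!
# The leaf `psu2` of the Lie(2) row (helper218)

`PSU₄(2)`, `PSU₅(2)`: `CommGen`, the first node is perfect, the last root group has at most two elements with `u * u = 1`.
-/

set_option autoImplicit false
set_option linter.unusedSectionVars false

namespace Cfsg.Agent.Omega.ML.Ex.Lie2.PsuTwo

open Cfsg
open Cfsg.Agent.Nodes Cfsg.Agent.Nodes.Reps Cfsg.Agent.TitsThree Cfsg.Agent.TitsThree.KSideU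

/-- the data of `PSU_{2m}(2)`, `PSU_{2m+1}(2)` -/
theorem di_PSU {F : Type*} [Field F] [Fintype F] [CharP F 2] {m N : ℕ} (hF : Fintype.card F = 2 ^ 2) (hm : 0 < m)
    (hN3 : 3 ≤ N) (hN : N = 2 * m ∨ N = 2 * m + 1) :
    HasDi (CoxeterMatrix.B m) (fun i : Fin m => (i : ℕ) + 1 < m) (fun c => ∀ i : Fin m, (i : ℕ) + 1 = m → c i < 4)
      (PSU N F 2) := by
  rcases hN with hN | hN
  · obtain ⟨W, hW⟩ := exists_wframe_even hF hN
    obtain ⟨nn, hD⟩ := dtx_PSU_even hF hm hN3 W hW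
    refine ⟨_, _, _, nn, _, { toRg := hD.toRg, comm := hD.comm, perf := fun i hi => hD.perf i (Or.inl hi) }, ?_⟩
    intro i hi
    have hi' : i = ⟨m - 1, by omega⟩ := Fin.ext (by change (i : ℕ) = m - 1; omega)
    rw [hi']
    exact lt_of_le_of_lt (SemiDat.iv_U hF hN3 hm W) (by norm_num)
  · obtain ⟨W, d, hd, hW⟩ := exists_wframe_odd hF hN
    obtain ⟨nn, hD⟩ := dtx_PSU_odd hF hm hN3 W hd hW
    refine ⟨_, _, _, nn, _, { toRg := hD.toRg, comm := hD.comm, perf := fun i hi => hD.perf i (Or.inl hi) }, ?_⟩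
    intro i hi
    have hi' : i = ⟨m - 1, by omega⟩ := Fin.ext (by change (i : ℕ) = m - 1; omega)
    rw [hi']
    exact lt_of_le_of_lt (SemiDat.iv_U hF hN3 hm W) (by norm_num)

/-- **The leaf `psu2`.** -/
theorem psu2 (F : Type) [Field F] [Fintype F] [CharP F 2] (N : ℕ) (hF : Fintype.card F = 4) (hN : N = 4 ∨ N = 5) :
    HasDi (CoxeterMatrix.B 2) (fun i => i = 0) (fun c => c 1 < 4) (PSU N F 2) := by
  obtain ⟨Ac, h, Tor, n, Xr, hD, hP⟩ := di_PSU (F := F) (m := 2) (N := N) (by rw [hF]; norm_num) two_pos (by omega)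
    (by omega)
  refine ⟨Ac, h, Tor, n, Xr, { toRg := hD.toRg, comm := hD.comm, perf := fun i hi => hD.perf i ?_ }, hP 1 rfl⟩
  rw [hi]
  decide

end Cfsg.Agent.Omega.ML.Ex.Lie2.PsuTwo
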