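import Cfsg.Agent.Omega.ML.Ex.Lie2.Dat
import Cfsg.Agent.Omega.ML.Ex.Lie2.PerfU
import Cfsg.Agent.Omega.ML.Ex.Typ.Par

/-!
# The orders of the simple root groups, diagram `B_m`, characteristic two (helper72)

* `HasInv Mx i G` : a root group datum of type `Mx`, the root group of the node `i` has at most one involution;
  `HasInv.of_equiv`, `HasInv.exists_rf`;
* `card_X`, `card_Z` : the orders of the simple root groups of a Witt model;
* **`hasRc_PSp`** : `PSp_{2m}(F)` : all orders are `|F|`; `hasRc_PSp_two`;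
* **`hasRc_PSU_even`, `hasRc_PSU_odd`** : `PSU_{2m}(q)` : `q², .., q², q`, `PSU_{2m+1}(q)` : `q², .., q², q³`;
  `hasRc_PSU4_two`, `hasRc_PSU5_two`;
* **`hasInv_PSp_two`, `hasInv_PSU_even`, `hasInv_PSU_odd`** : `q = 2`, one involution in the last root group.
-/

set_option autoImplicit false
set_option linter.unusedSectionVars false

namespace Cfsg.Agent.Omega.ML.Ex.Lie2

open Cfsg
open Subgroup CoxeterSystem Cfsg.Agent.ChevalleyStructure.CoxeterGeom Cfsg.Agent.Tits.Roots Cfsg.Agent.Tits.Core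
  Cfsg.Agent.Nodes.Comb Cfsg.Agent.Nodes.Reps Cfsg.Agent.Nodes.BNOf
open Cfsg.Agent.Nodes Cfsg.Agent.Nodes.WittAll Cfsg.Agent.Nodes.WittU Cfsg.Agent.Nodes.WittRoot
  Cfsg.Agent.Nodes.WittRGD Cfsg.Agent.TitsThree Cfsg.Agent.TitsThree.Siegel Cfsg.Agent.TitsThree.SiegelGen
  Cfsg.Agent.TitsThree.WittFrame Cfsg.Agent.TitsThree.WBridge Cfsg.Agent.TitsThree.FrameCN
  Cfsg.Agent.Omega.EH3.Kf.TwC Cfsg.Agent.Omega.EH3.Kf.TwWitt Cfsg.Agent.Nodes.TypeC

universe u

/-- a group with a root group datum of type `Mx` whose `i`-th simple root group has order `r` and at most one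
involution -/
def HasInv {l : ℕ} (Mx : CoxeterMatrix (Fin l)) (i : Fin l) (r : ℕ) (G : Type*) [Group G] : Prop :=
  ∃ (Ac : Fin l → Fin l → ℤ) (h : IsCartan Mx Ac) (Tor : Subgroup G) (n : Fin l → G)
    (Xr : (Fin l → ℤ) → Subgroup G), Rg h Tor n Xr ∧ Nat.card (Xr (sr i)) = r ∧
      ∃ z : G, ∀ u ∈ Xr (sr i), u * u = 1 → u = 1 ∨ u = z

theorem inv_map {G H : Type*} [Group G] [Group H] (e : G ≃* H) {S : Subgroup G} {z : G}
    (hS : ∀ u ∈ S, u * u = 1 → u = 1 ∨ u = z) : ∀ u ∈ S.map e.toMonoidHom, u * u = 1 → u = 1 ∨ u = e z := by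
  rintro _ ⟨u, hu, rfl⟩ h1
  have h2 : e (u * u) = 1 := by rw [map_mul]; exact h1
  rcases hS u hu (e.injective (h2.trans (map_one e).symm)) with h | h
  · left; rw [h]; exact map_one e
  · right; rw [h]; rfl

theorem HasInv.of_equiv {l : ℕ} {Mx : CoxeterMatrix (Fin l)} {i : Fin l} {r : ℕ} {G H : Type*} [Group G] [Group H]
    (e : G ≃* H) (hG : HasInv Mx i r G) : HasInv Mx i r H := by
  obtain ⟨Ac, h, Tor, n, Xr, D, hr, z, hz⟩ := hG
  exact ⟨Ac, h, _, _, _, D.map e, (Subgroup.card_map_of_injective e.injective).trans hr, e z, inv_map e hz⟩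

/-- **The datum for `T`.** -/
theorem HasInv.exists_rf {X : Type u} [Group X] [Finite X] {K T : Subgroup X} {l : ℕ} {Mx : CoxeterMatrix (Fin l)}
    {i : Fin l} {r : ℕ} (hK : K.Normal) (hT : IsPGroup 2 T) (hTi : ¬ 2 ∣ T.index)
    (hD : HasInv Mx i r K) : ∃ (Ac : Fin l → Fin l → ℤ) (h : IsCartan Mx Ac) (Tor : Subgroup K) (n : Fin l → K)
      (Xr : (Fin l → ℤ) → Subgroup K), RF K T h Tor n Xr ∧ Nat.card (Xr (sr i)) = r ∧
        ∃ z : K, ∀ u ∈ Xr (sr i), u * u = 1 → u = 1 ∨ u = z := by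
  obtain ⟨Ac, h, Tor, n, Xr, D, hr, z, hz⟩ := hD
  obtain ⟨g, hg⟩ := D.exists_rf hK hT hTi
  exact ⟨Ac, h, _, _, _, hg, (Subgroup.card_map_of_injective (MulAut.conj g).injective).trans hr, _,
    inv_map (MulAut.conj g) hz⟩

theorem HasInv.hasRc {l : ℕ} {Mx : CoxeterMatrix (Fin l)} {i : Fin l} {r : ℕ} {G : Type*} [Group G]
    (hG : HasInv Mx i r G) : HasRc Mx (fun c => c i = r) G := by
  obtain ⟨Ac, h, Tor, n, Xr, D, hr, -⟩ := hG
  exact ⟨Ac, h, Tor, n, Xr, D, hr⟩

theorem HasRc.mono {l : ℕ} {Mx : CoxeterMatrix (Fin l)} {P P' : (Fin l → ℕ) → Prop} {G : Type*} [Group G]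
    (hG : HasRc Mx P G) (hP : ∀ c, P c → P' c) : HasRc Mx P' G := by
  obtain ⟨Ac, h, Tor, n, Xr, D, hr⟩ := hG
  exact ⟨Ac, h, Tor, n, Xr, D, hP _ hr⟩

section Models

variable {F : Type*} [Field F] {V : Type*} [AddCommGroup V] [Module F V] {H : HForm F V} {n : ℕ}
  {Fr : Frame H (Fin n)} {K : Type*} [Group K] (M : Model Fr K)

/-- the datum of a model -/
theorem rg_model (hA : AmbT Fr 2 M.I) [Finite V] [CharP F 2] {p0 : Fr.Adm} (hp0 : p0.c ≠ 0) (hn : 0 < n) :
    Rg (Mx := CoxeterMatrix.B n) (Nodes.TypeC.isCartan n) (WittModel.T M)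
      (fun i => M.φ ⟨WittRGD.nn Fr p0 i, nn_mem hA p0 i⟩) (WittModel.X M) where
  fin := Nodes.TypeC.finite_W (CoxeterMatrix.B n).toCoxeterSystem
  rgd := by
    have : Fact (Nat.Prime 2) := ⟨Nat.prime_two⟩
    exact rgdC_model M hA hp0 _
  gen := WittModel.G1_eq_top _ hn _

theorem wt_last {i : Fin n} (hi : ¬ (i : ℕ) + 1 < n) : ee (sr i) = wt (i, true) + wt (i, true) := by
  have hnx : nx i = (i, true) := by unfold nx; rw [dif_neg hi]
  have := ee_sr i
  rw [bt, hnx] at this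
  exact this

/-- the order of the last root group -/
theorem card_Z (hA : AmbT Fr 2 M.I) [Finite V] [CharP F 2] {i : Fin n} (hi : ¬ (i : ℕ) + 1 < n) :
    Nat.card (WittModel.X M (sr i)) = Nat.card Fr.Adm := by
  have : Fact (Nat.Prime 2) := ⟨Nat.prime_two⟩
  refine (Nat.card_eq_of_bijective (fun p : Fr.Adm => (⟨M.Z (i, true) p, Z_mem M (wt_last hi) p⟩ :
    WittModel.X M (sr i))) ⟨?_, ?_⟩).symm
  · intro p q e
    have e1 : M.Z (i, true) p = M.Z (i, true) q := congrArg Subtype.val e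
    have e2 : M.Z (i, true) (p * q⁻¹) = 1 := by
      have e3 : M.Z (i, true) (p * q⁻¹) * M.Z (i, true) q = M.Z (i, true) q := by
        rw [← Z_mul, inv_mul_cancel_right, e1]
      exact mul_eq_right.1 e3
    exact mul_inv_eq_one.1 (Z_eq_one M hA e2)
  · rintro ⟨k, hk⟩
    obtain ⟨p, rfl⟩ := (mem_ZK M (wt_last hi)).1 hk
    exact ⟨p, rfl⟩

/-- the order of the other root groups -/
theorem card_X (hA : AmbT Fr 2 M.I) [Finite V] [CharP F 2] {i : Fin n} (hi : (i : ℕ) + 1 < n) :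
    Nat.card (WittModel.X M (sr i)) = Nat.card F := by
  have : Fact (Nat.Prime 2) := ⟨Nat.prime_two⟩
  have hnx : nx i = (⟨i + 1, hi⟩, false) := by unfold nx; rw [dif_pos hi]
  have hne : ((i, true) : Fin n × Bool).1 ≠ (nx i).1 := by rw [hnx]; simp [Fin.ext_iff]
  refine (Nat.card_eq_of_bijective (fun t : F => (⟨M.X (i, true) (nx i) t, X_mem M hne (ee_sr i) t⟩ :
    WittModel.X M (sr i))) ⟨?_, ?_⟩).symm
  · intro s t e
    have e1 : M.X (i, true) (nx i) s = M.X (i, true) (nx i) t := congrArg Subtype.val e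
    have e2 : M.X (i, true) (nx i) (s - t) = 1 := by
      have e3 : M.X (i, true) (nx i) (s - t) * M.X (i, true) (nx i) t = M.X (i, true) (nx i) t := by
        rw [← X_add, sub_add_cancel, e1]
      exact mul_eq_right.1 e3
    exact sub_eq_zero.1 (X_eq_one M hA hne e2)
  · rintro ⟨k, hk⟩
    obtain ⟨t, rfl⟩ := (mem_XK M hne (ee_sr i)).1 hk
    exact ⟨t, rfl⟩

/-- one involution in the last root group -/
theorem inv_Z (hA : AmbT Fr 2 M.I) [Finite V] [CharP F 2] {i : Fin n} (hi : ¬ (i : ℕ) + 1 < n)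
    (han : ∀ w ∈ Fr.V0, H.h w w = 0 → w = 0) {c1 : F} (hc : ∀ c : F, Fr.ok 0 c → c = 0 ∨ c = c1) :
    ∃ z : K, ∀ u ∈ WittModel.X M (sr i), u * u = 1 → u = 1 ∨ u = z := by
  have : Fact (Nat.Prime 2) := ⟨Nat.prime_two⟩
  have h2 : (2 : F) = 0 := CharTwo.two_eq_zero
  by_cases h1 : Fr.ok 0 c1
  swap
  · -- the root group has no elements of order two
    refine ⟨1, fun u hu huu => Or.inl ?_⟩
    obtain ⟨p, rfl⟩ := (mem_ZK M (wt_last hi)).1 hu
    rw [← Z_mul] at huu
    have h3 := Z_eq_one M hA huu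
    have h4 : (p * p).c = 0 := by rw [h3]; rfl
    rw [Frame.Adm.mul_c] at h4
    have h5 : H.h p.w p.w = 0 := by
      have h6 : H.ε⁻¹ * H.h p.w p.w = 2 * p.c := by linear_combination -h4
      rw [h2, zero_mul] at h6
      exact (mul_eq_zero.1 h6).resolve_left (inv_ne_zero H.ε_ne)
    have h6 : p.w = 0 := han _ (Fr.ok_mem p.ok) h5
    have h7 : p.c = 0 := by
      have h8 := p.ok
      rw [h6] at h8
      rcases hc _ h8 with h9 | h9
      · exact h9
      · rw [h9] at h8; exact absurd h8 h1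
    have h8 : p = 1 := Frame.Adm.ext h6 h7
    rw [h8]
    exact Z_one M _
  · refine ⟨M.Z (i, true) ⟨0, c1, h1⟩, fun u hu huu => ?_⟩
    obtain ⟨p, rfl⟩ := (mem_ZK M (wt_last hi)).1 hu
    rw [← Z_mul] at huu
    have h3 := Z_eq_one M hA huu
    have h4 : (p * p).c = 0 := by rw [h3]; rfl
    rw [Frame.Adm.mul_c] at h4
    have h5 : H.h p.w p.w = 0 := by
      have h6 : H.ε⁻¹ * H.h p.w p.w = 2 * p.c := by linear_combination -h4
      rw [h2, zero_mul] at h6
      exact (mul_eq_zero.1 h6).resolve_left (inv_ne_zero H.ε_ne)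
    have h6 : p.w = 0 := han _ (Fr.ok_mem p.ok) h5
    have h8 := p.ok
    rw [h6] at h8
    rcases hc _ h8 with h9 | h9
    · left
      have h10 : p = 1 := Frame.Adm.ext h6 h9
      rw [h10]
      exact Z_one M _
    · right
      have h10 : p = ⟨0, c1, h1⟩ := Frame.Adm.ext h6 h9
      rw [h10]

end Models

/-! ### The families -/

theorem charTwo_of_two {F : Type*} [Field F] (h : (2 : F) = 0) : CharP F 2 :=
  CharTwo.of_one_ne_zero_of_two_eq_zero one_ne_zero h

theorem charTwo_of_card {F : Type*} [Field F] [Finite F] {k : ℕ} (h : Nat.card F = 2 ^ k) : CharP F 2 := by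
  have : Fintype F := Fintype.ofFinite F
  refine charTwo_of_two ?_
  have h1 := FiniteField.cast_card_eq_zero F
  rw [← Nat.card_eq_fintype_card, h, Nat.cast_pow] at h1
  exact_mod_cast eq_zero_of_pow_eq_zero h1

section Symplectic

variable {F : Type*} [Field F] [Finite F] {m : ℕ}

theorem card_adm_sp : Nat.card (SpIdent.frame m F).Adm = Nat.card F :=
  Nat.card_congr
    { toFun := fun a => a.c
      invFun := fun c => SpIdent.adm c
      left_inv := fun a => (SpIdent.eq_adm a).symm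
      right_inv := fun _ => rfl }

/-- **`PSp_{2m}(F)`: all simple root groups have order `|F|`.** -/
theorem hasRc_PSp [CharP F 2] (hm : 1 ≤ m) : HasRc (CoxeterMatrix.B m) (fun c => ∀ i, c i = Nat.card F) (PSp m F) := by
  have : Fact (Nat.Prime 2) := ⟨Nat.prime_two⟩
  have hA : AmbT (SpIdent.frame m F) 2 (KInstSp.model m F).I := AmbT.of_amb amb_Sp 2
  refine ⟨_, _, _, _, _, rg_model (KInstSp.model m F) hA (p0 := SpIdent.adm 1) one_ne_zero hm, ?_⟩
  intro i
  by_cases hi : (i : ℕ) + 1 < m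
  · exact card_X _ hA hi
  · exact (card_Z _ hA hi).trans card_adm_sp

/-- **`PSp_{2m}(2)`.** -/
theorem hasRc_PSp_two (hF : Nat.card F = 2) (hm : 1 ≤ m) :
    HasRc (CoxeterMatrix.B m) (fun c => ∀ i : Fin m, (i : ℕ) + 1 = m → c i = 2) (PSp m F) := by
  have := charTwo_of_card (k := 1) hF
  exact (hasRc_PSp hm).mono fun c hc i _ => (hc i).trans hF

theorem hasInv_PSp_two (hF : Nat.card F = 2) (hm : 1 ≤ m) :
    HasInv (CoxeterMatrix.B m) ⟨m - 1, by omega⟩ 2 (PSp m F) := by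
  have : Fact (Nat.Prime 2) := ⟨Nat.prime_two⟩
  have := charTwo_of_card (k := 1) hF
  have hA : AmbT (SpIdent.frame m F) 2 (KInstSp.model m F).I := AmbT.of_amb amb_Sp 2
  have hi : ¬ ((⟨m - 1, by omega⟩ : Fin m) : ℕ) + 1 < m := by simp only; omega
  refine ⟨_, _, _, _, _, rg_model (KInstSp.model m F) hA (p0 := SpIdent.adm 1) one_ne_zero hm,
    ((card_Z _ hA hi).trans card_adm_sp).trans hF, inv_Z _ hA hi (fun w hw _ => (Submodule.mem_bot F).1 hw)
      (c1 := 1) fun c _ => ?_⟩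
  have : Fintype F := Fintype.ofFinite F
  have h1 := FiniteField.pow_card c
  rw [← Nat.card_eq_fintype_card, hF] at h1
  have h2 : c * (c - 1) = 0 := by linear_combination h1
  rcases mul_eq_zero.1 h2 with h | h
  · exact Or.inl h
  · exact Or.inr (sub_eq_zero.1 h)

end Symplectic

section Unitary

open Cfsg.Agent.LieClassical.HermBasic Cfsg.Agent.TitsThree.KSideU

variable {F : Type*} [Field F] [Fintype F] {q N : ℕ} (hF : Fintype.card F = q ^ 2)

include hF

/-- the number of solutions of `c + c ^ q = b` -/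
theorem card_trace {b : F} (hb : b ^ q = b) : Nat.card {c : F // c + c ^ q = b} = q := by
  classical
  have hq := Typ.two_le_q hF
  have hle : ∀ b : F, (Finset.univ.filter fun c : F => c + c ^ q = b).card ≤ q := by
    intro b
    have h1 := Typ.card_trace_le hq b
    rwa [Nat.card_eq_fintype_card, Fintype.card_subtype] at h1
  have hE : (Finset.univ.filter fun b : F => b ^ q = b).card ≤ q := by
    have h1 : (Polynomial.X ^ q - Polynomial.X : Polynomial F) ≠ 0 := FiniteField.X_pow_card_sub_X_ne_zero F hq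
    have h2 : (Polynomial.X ^ q - Polynomial.X : Polynomial F).natDegree = q :=
      FiniteField.X_pow_card_sub_X_natDegree_eq F hq
    calc (Finset.univ.filter fun b : F => b ^ q = b).card
        ≤ (Polynomial.X ^ q - Polynomial.X : Polynomial F).roots.toFinset.card := by
          refine Finset.card_le_card fun b hb => ?_
          rw [Multiset.mem_toFinset, Polynomial.mem_roots h1, Polynomial.IsRoot.def]
          simp only [Polynomial.eval_sub, Polynomial.eval_pow, Polynomial.eval_X]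
          rw [(Finset.mem_filter.1 hb).2, sub_self]
      _ ≤ q := (Multiset.toFinset_card_le _).trans ((Polynomial.card_roots' _).trans h2.le)
  have hmaps : ∀ c ∈ (Finset.univ : Finset F), c + c ^ q ∈ Finset.univ.filter fun b : F => b ^ q = b := by
    intro c _
    rw [Finset.mem_filter]
    refine ⟨Finset.mem_univ _, ?_⟩
    rw [add_pow_q hF, pow_q_pow_q hF, add_comm]
  have hsum := Finset.card_eq_sum_card_fiberwise hmaps
  rw [Finset.card_univ, hF] at hsum
  rw [Nat.card_eq_fintype_card, Fintype.card_subtype]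
  by_contra hne
  have hlt : (Finset.univ.filter fun c : F => c + c ^ q = b).card < q := lt_of_le_of_ne (hle b) hne
  have h1 : ∑ b ∈ Finset.univ.filter (fun b : F => b ^ q = b), (Finset.univ.filter fun c : F => c + c ^ q = b).card <
      ∑ _b ∈ Finset.univ.filter (fun b : F => b ^ q = b), q :=
    Finset.sum_lt_sum (fun b _ => hle b) ⟨b, by rw [Finset.mem_filter]; exact ⟨Finset.mem_univ _, hb⟩, hlt⟩
  rw [Finset.sum_const, smul_eq_mul] at h1
  have h2 := Nat.mul_le_mul_right q hE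
  rw [← hsum] at h1
  nlinarith

theorem card_adm {m : ℕ} (W : WFrame (PU hF N) m) : Nat.card (toFrame W).Adm = Nat.card W.V0 * q := by
  classical
  have : Fintype W.V0 := Fintype.ofFinite _
  have e : (toFrame W).Adm ≃ Σ w : W.V0, {c : F // c + c ^ q = -hermForm N F q w w} :=
    { toFun := fun a => ⟨⟨a.w, a.ok.1⟩, ⟨a.c, a.ok.2⟩⟩
      invFun := fun x => ⟨x.1.1, x.2.1, x.1.2, x.2.2⟩
      left_inv := fun _ => rfl
      right_inv := fun _ => rfl }
  have h1 : ∀ w : W.V0, Nat.card {c : F // c + c ^ q = -hermForm N F q w w} = q := fun w =>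
    card_trace hF (by rw [neg_pow_q hF, herm_self_pow hF])
  rw [Nat.card_congr e, Nat.card_sigma]
  simp only [h1]
  rw [Finset.sum_const, Finset.card_univ, ← Nat.card_eq_fintype_card, smul_eq_mul]

theorem card_V0_odd {W : Submodule F (Fin N → F)} {d : Fin N → F} (hd : hermForm N F q d d = 1)
    (hW : W = Submodule.span F {d}) : Nat.card W = q ^ 2 := by
  have hd0 : d ≠ 0 := by
    rintro rfl
    rw [herm_zero_left] at hd
    exact zero_ne_one hd
  rw [hW, ← hF, ← Nat.card_eq_fintype_card]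
  exact Nat.card_congr (LinearEquiv.toSpanNonzeroSingleton F _ d hd0).toEquiv.symm

/-- **`PSU_{2m}(q)`: the orders of the simple root groups are `q², .., q², q`.** -/
theorem hasRc_PSU_even [CharP F 2] {m : ℕ} (hN : N = 2 * m) (hN3 : 3 ≤ N) :
    HasRc (CoxeterMatrix.B m) (fun c => ∀ i : Fin m, c i = if (i : ℕ) + 1 < m then q ^ 2 else q) (PSU N F q) := by
  have : Fact (Nat.Prime 2) := ⟨Nat.prime_two⟩
  obtain ⟨W, hW⟩ := exists_wframe_even hF hN
  obtain ⟨p0, hp0, -⟩ := exists_adm hF W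
  have hA : AmbT (toFrame W) 2 (KInstU.model hF hN3 W).I := AmbT.of_amb (amb_U hF W) 2
  refine ⟨_, _, _, _, _, rg_model (KInstU.model hF hN3 W) hA hp0 (by omega), ?_⟩
  intro i
  show Nat.card (WittModel.X (KInstU.model hF hN3 W) (sr i)) = _
  split_ifs with hi
  · rw [card_X _ hA hi, Nat.card_eq_fintype_card, hF]
  · rw [card_Z _ hA hi, card_adm, hW, Nat.card_unique, one_mul]

/-- **`PSU_{2m+1}(q)`: the orders of the simple root groups are `q², .., q², q³`.** -/
theorem hasRc_PSU_odd [CharP F 2] {m : ℕ} (hN : N = 2 * m + 1) (hm : 1 ≤ m) :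
    HasRc (CoxeterMatrix.B m) (fun c => ∀ i : Fin m, c i = if (i : ℕ) + 1 < m then q ^ 2 else q ^ 3) (PSU N F q) := by
  have : Fact (Nat.Prime 2) := ⟨Nat.prime_two⟩
  have hN3 : 3 ≤ N := by omega
  obtain ⟨W, d, hd, hW⟩ := exists_wframe_odd hF hN
  obtain ⟨p0, hp0, -⟩ := exists_adm hF W
  have hA : AmbT (toFrame W) 2 (KInstU.model hF hN3 W).I := AmbT.of_amb (amb_U hF W) 2
  refine ⟨_, _, _, _, _, rg_model (KInstU.model hF hN3 W) hA hp0 (by omega), ?_⟩
  intro i
  show Nat.card (WittModel.X (KInstU.model hF hN3 W) (sr i)) = _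
  split_ifs with hi
  · rw [card_X _ hA hi, Nat.card_eq_fintype_card, hF]
  · rw [card_Z _ hA hi, card_adm, card_V0_odd hF hd hW, ← pow_succ]

end Unitary

section UnitaryTwo

open Cfsg.Agent.LieClassical.HermBasic Cfsg.Agent.TitsThree.KSideU

variable {F : Type*} [Field F] [Fintype F] {N : ℕ} (hF : Fintype.card F = 2 ^ 2)

include hF

theorem charTwo_of_four : CharP F 2 := charTwo_of_card (k := 2) (by rw [Nat.card_eq_fintype_card, hF])

theorem inv_U [CharP F 2] (hN3 : 3 ≤ N) {m : ℕ} (W : WFrame (PU hF N) m)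
    (hA : AmbT (toFrame W) 2 (KInstU.model hF hN3 W).I) {i : Fin m} (hi : ¬ (i : ℕ) + 1 < m) :
    ∃ z : PSU N F 2, ∀ u ∈ WittModel.X (KInstU.model hF hN3 W) (sr i), u * u = 1 → u = 1 ∨ u = z := by
  refine inv_Z _ hA hi (fun w hw h => W.aniso w hw ((sing_iff hF).2 h)) (c1 := 1) fun c hc => ?_
  have h1 : c + c ^ 2 = -hermForm N F 2 0 0 := hc.2
  rw [herm_zero_left, neg_zero] at h1
  have h2 : (2 : F) = 0 := CharTwo.two_eq_zero
  have h3 : c * (c - 1) = 0 := by linear_combination h1 - c * h2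
  rcases mul_eq_zero.1 h3 with h | h
  · exact Or.inl h
  · exact Or.inr (sub_eq_zero.1 h)

/-- **`PSU_{2m}(2)`: the last root group has order two.** -/
theorem hasInv_PSU_even {m : ℕ} (hN : N = 2 * m) (hN3 : 3 ≤ N) :
    HasInv (CoxeterMatrix.B m) ⟨m - 1, by omega⟩ 2 (PSU N F 2) := by
  have : Fact (Nat.Prime 2) := ⟨Nat.prime_two⟩
  have := charTwo_of_four hF
  obtain ⟨W, hW⟩ := exists_wframe_even hF hN
  obtain ⟨p0, hp0, -⟩ := exists_adm hF W
  have hA : AmbT (toFrame W) 2 (KInstU.model hF hN3 W).I := AmbT.of_amb (amb_U hF W) 2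
  have hi : ¬ ((⟨m - 1, by omega⟩ : Fin m) : ℕ) + 1 < m := by simp only; omega
  refine ⟨_, _, _, _, _, rg_model (KInstU.model hF hN3 W) hA hp0 (by omega), ?_, inv_U hF hN3 W hA hi⟩
  rw [card_Z _ hA hi, card_adm, hW, Nat.card_unique, one_mul]

/-- **`PSU_{2m+1}(2)`: the last root group has order eight and one involution.** -/
theorem hasInv_PSU_odd {m : ℕ} (hN : N = 2 * m + 1) (hm : 1 ≤ m) :
    HasInv (CoxeterMatrix.B m) ⟨m - 1, by omega⟩ 8 (PSU N F 2) := by
  have : Fact (Nat.Prime 2) := ⟨Nat.prime_two⟩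
  have := charTwo_of_four hF
  have hN3 : 3 ≤ N := by omega
  obtain ⟨W, d, hd, hW⟩ := exists_wframe_odd hF hN
  obtain ⟨p0, hp0, -⟩ := exists_adm hF W
  have hA : AmbT (toFrame W) 2 (KInstU.model hF hN3 W).I := AmbT.of_amb (amb_U hF W) 2
  have hi : ¬ ((⟨m - 1, by omega⟩ : Fin m) : ℕ) + 1 < m := by simp only; omega
  refine ⟨_, _, _, _, _, rg_model (KInstU.model hF hN3 W) hA hp0 (by omega), ?_, inv_U hF hN3 W hA hi⟩
  rw [card_Z _ hA hi, card_adm, card_V0_odd hF hd hW]
  norm_num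

/-- **`PSU_4(2)`.** -/
theorem hasRc_PSU4_two : HasRc (CoxeterMatrix.B 2) (fun c => ∀ i : Fin 2, (i : ℕ) + 1 = 2 → c i = 2) (PSU 4 F 2) := by
  have := charTwo_of_four hF
  refine (hasRc_PSU_even hF (m := 2) rfl (by omega)).mono fun c hc i hi => ?_
  rw [hc i, if_neg (by omega)]

/-- **`PSU_5(2)`.** -/
theorem hasRc_PSU5_two : HasRc (CoxeterMatrix.B 2) (fun c => c 1 = 8) (PSU 5 F 2) :=
  (hasInv_PSU_odd hF (m := 2) rfl (by omega)).hasRc

end UnitaryTwo

end Cfsg.Agent.Omega.ML.Ex.Lie2
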