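import Cfsg.Agent.ParSys.KFact

/-!
# Rank two, the rank one groups have a fixed-point-free torus (OMEGA, (6''), C4; helper978)

`Q` is a split (B,N)-pair with unipotent group `UE` and nodes `s`, `t`.

* `le_of_fpf` : `[U, h] ≤ D`, `V ≤ D`, `h` fixed-point-free on `U / V` imply `U ≤ D`;
* `nongen_le` : `V_s ∩ V_t ≤ D` if `UE / D` is elementary abelian, from (F1);
* **`le_of_pair`** : `Rone UE s ≤ Y`, `Y / D` elementary abelian of exponent 2: then `UE ≤ D`.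
-/

set_option autoImplicit false

namespace Cfsg.Agent.Omega.ML.Ex.Lie2.TwoNode

open Subgroup Cfsg.Agent.ParSys

variable {K : Type*} [Group K]

/-- a fixed-point-free commutator map is surjective -/
theorem le_of_fpf [Finite K] {U V D : Subgroup K} {h : K} (hU : ∀ u ∈ U, h * u * h⁻¹ ∈ U)
    (hn : ∀ u ∈ U, ∀ v ∈ V, u⁻¹ * v * u ∈ V) (hf : ∀ u ∈ U, h * u * h⁻¹ * u⁻¹ ∈ V → u ∈ V) (hVD : V ≤ D)
    (hD : ∀ u ∈ U, h * u * h⁻¹ * u⁻¹ ∈ D) : U ≤ D := by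
  let φ : (↥U ⧸ V.subgroupOf U) → (↥U ⧸ V.subgroupOf U) := fun q =>
    QuotientGroup.mk ⟨h * (q.out : K) * h⁻¹ * (q.out : K)⁻¹, mul_mem (hU _ q.out.2) (inv_mem q.out.2)⟩
  have hinj : Function.Injective φ := by
    intro a b hab
    have h0 := (QuotientGroup.eq (s := V.subgroupOf U)).1 hab
    have h1 : (h * (a.out : K) * h⁻¹ * (a.out : K)⁻¹)⁻¹ * (h * (b.out : K) * h⁻¹ * (b.out : K)⁻¹) ∈ V := h0
    have h2 := hn _ a.out.2 _ h1
    have h3 : (a.out : K)⁻¹ * ((h * (a.out : K) * h⁻¹ * (a.out : K)⁻¹)⁻¹ *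
        (h * (b.out : K) * h⁻¹ * (b.out : K)⁻¹)) * (a.out : K) =
        h * ((a.out : K)⁻¹ * (b.out : K)) * h⁻¹ * ((a.out : K)⁻¹ * (b.out : K))⁻¹ := by group
    rw [h3] at h2
    have h4 := hf _ (mul_mem (inv_mem a.out.2) b.out.2) h2
    rw [← QuotientGroup.out_eq' a, ← QuotientGroup.out_eq' b]
    exact (QuotientGroup.eq (s := V.subgroupOf U)).2 h4
  intro u hu
  obtain ⟨q, hq⟩ := Finite.surjective_of_injective hinj (QuotientGroup.mk ⟨u, hu⟩)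
  have h0 := (QuotientGroup.eq (s := V.subgroupOf U)).1 hq
  have h1 : (h * (q.out : K) * h⁻¹ * (q.out : K)⁻¹)⁻¹ * u ∈ V := h0
  have h2 := mul_mem (hD _ q.out.2) (hVD h1)
  rwa [mul_inv_cancel_left] at h2

/-- (F1): the non-generators lie in the kernels of the homomorphisms into groups of exponent two -/
theorem nongen_le [Finite K] {Q : Cfsg.BNPair K} {UE : Subgroup K} {s t : K} (one : FOne Q UE s t) {D : Subgroup K}
    (hc : ∀ x ∈ UE, ∀ y ∈ UE, x * y * x⁻¹ * y⁻¹ ∈ D) (hsq : ∀ x ∈ UE, x * x ∈ D) {v : K} (hv : v ∈ UE)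
    (hvs : s⁻¹ * v * s ∈ Q.B) (hvt : t⁻¹ * v * t ∈ Q.B) : v ∈ D := by
  by_contra hvD
  obtain ⟨T, hT, hmax⟩ := (Set.toFinite {T : Subgroup K | D ⊓ UE ≤ T ∧ T ≤ UE ∧ v ∉ T}).exists_maximal
    ⟨D ⊓ UE, le_rfl, inf_le_right, fun h => hvD (mem_inf.1 h).1⟩
  obtain ⟨hDT, hTU, hvT⟩ := hT
  have hcT : ∀ x ∈ UE, ∀ y ∈ UE, x * y * x⁻¹ * y⁻¹ ∈ T := fun x hx y hy =>
    hDT (mem_inf.2 ⟨hc x hx y hy, mul_mem (mul_mem (mul_mem hx hy) (inv_mem hx)) (inv_mem hy)⟩)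
  have hnT : ∀ x ∈ UE, ∀ y ∈ T, x * y * x⁻¹ ∈ T := fun x hx y hy => by
    have h1 := mul_mem (hcT x hx y (hTU hy)) hy
    rwa [inv_mul_cancel_right] at h1
  refine hvT (one T hTU ?_ hv)
  intro e he
  by_cases heT : e ∈ T
  · refine ⟨e, heT, ?_, ?_⟩
    · rw [inv_mul_cancel, mul_one, inv_mul_cancel]; exact one_mem _
    · rw [inv_mul_cancel, mul_one, inv_mul_cancel]; exact one_mem _
  have he2 : e * e ∈ T := hDT (mem_inf.2 ⟨hsq e he, mul_mem he he⟩)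
  let T' : Subgroup K :=
    { carrier := {y | y ∈ T ∨ y * e⁻¹ ∈ T}
      one_mem' := Or.inl (one_mem _)
      mul_mem' := by
        rintro y z (hy | hy) (hz | hz)
        · exact Or.inl (mul_mem hy hz)
        · refine Or.inr ?_
          rw [mul_assoc]
          exact mul_mem hy hz
        · refine Or.inr ?_
          have h1 := mul_mem hy (hnT e he z hz)
          have e1 : y * e⁻¹ * (e * z * e⁻¹) = y * z * e⁻¹ := by group
          rwa [e1] at h1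
        · refine Or.inl ?_
          have h1 := mul_mem (mul_mem hy (hnT e he _ hz)) he2
          have e1 : y * e⁻¹ * (e * (z * e⁻¹) * e⁻¹) * (e * e) = y * z := by group
          rwa [e1] at h1
      inv_mem' := by
        rintro y (hy | hy)
        · exact Or.inl (inv_mem hy)
        · refine Or.inr ?_
          have h1 := mul_mem (inv_mem he2) (hnT e he _ (inv_mem hy))
          have e1 : (e * e)⁻¹ * (e * (y * e⁻¹)⁻¹ * e⁻¹) = e⁻¹ * (e * y⁻¹) * e⁻¹ := by group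
          rw [e1] at h1
          have e2 : e⁻¹ * (e * y⁻¹) * e⁻¹ = y⁻¹ * e⁻¹ := by group
          rwa [e2] at h1 }
  have hTT' : T ≤ T' := fun y hy => Or.inl hy
  have heT' : e ∈ T' := Or.inr (by rw [mul_inv_cancel]; exact one_mem _)
  have hvT' : v ∈ T' := by
    by_contra hvn
    have h1 : T' ≤ T := hmax (show T' ∈ {T : Subgroup K | D ⊓ UE ≤ T ∧ T ≤ UE ∧ v ∉ T} from
      ⟨hDT.trans hTT', fun y hy => by
        rcases hy with hy | hy
        · exact hTU hy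
        · have := mul_mem (hTU hy) he
          rwa [inv_mul_cancel_right] at this, hvn⟩) hTT'
    exact heT (h1 heT')
  rcases hvT' with h1 | h1
  · exact absurd h1 hvT
  · refine ⟨(v * e⁻¹)⁻¹, inv_mem h1, ?_, ?_⟩
    · rw [inv_inv, inv_mul_cancel_right]; exact hvs
    · rw [inv_inv, inv_mul_cancel_right]; exact hvt

/-- **Both nodes.** -/
theorem le_of_pair [Finite K] {Q : Cfsg.BNPair K} {UE : Subgroup K} {s t : K} (hsp : FixBN.Split Q 2 UE) (hs : s ∈ Q.S)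
    (ht : t ∈ Q.S) (one : FOne Q UE s t) (hss : FpfR Q UE s s) (hts : FpfR Q UE t s) {Y D : Subgroup K}
    (hY : Rone UE s ≤ Y) (hc : ∀ x ∈ Y, ∀ y ∈ Y, x * y * x⁻¹ * y⁻¹ ∈ D) (hsq : ∀ x ∈ Y, x * x ∈ D) : UE ≤ D := by
  obtain ⟨Vs, hVs⟩ := hsp.node s hs
  obtain ⟨Vt, hVt⟩ := hsp.node t ht
  obtain ⟨a, haR, haB, hfa⟩ := hss
  obtain ⟨b, hbR, hbB, hfb⟩ := hts
  have hUY : UE ≤ Y := le_trans le_sup_left hY
  have hstab : ∀ v ∈ Vs, s⁻¹ * v * s ∈ Q.B := fun v hv => hsp.le (hVs.le (hVs.conj_s v hv))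
  have hstabt : ∀ v ∈ Vt, t⁻¹ * v * t ∈ Q.B := fun v hv => hsp.le (hVt.le (hVt.conj_s v hv))
  have h1 : Vs ⊓ Vt ≤ D := fun v hv =>
    nongen_le one (fun x hx y hy => hc x (hUY hx) y (hUY hy)) (fun x hx => hsq x (hUY hx)) (hVs.le hv.1)
      (hstab v hv.1) (hstabt v hv.2)
  have h2 : Vs ≤ D := by
    refine le_of_fpf (h := b) (V := Vs ⊓ Vt) (fun u hu => hVs.conj_B b (mem_inf.1 hbB).1 u hu) ?_ ?_ h1 ?_
    · intro u hu v hv
      have h3 := hVs.conj_B u⁻¹ (inv_mem (hsp.le (hVs.le hu))) v hv.1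
      have h4 := hVt.conj_B u⁻¹ (inv_mem (hsp.le (hVs.le hu))) v hv.2
      rw [inv_inv] at h3 h4
      exact mem_inf.2 ⟨h3, h4⟩
    · intro u hu h3
      exact ⟨hu, hVt.stab u (hVs.le hu) (hfb u (hVs.le hu) (hstabt _ h3.2))⟩
    · exact fun u hu => hc b (hY hbR) u (hUY (hVs.le hu))
  refine le_of_fpf (h := a) (V := Vs) (fun u hu => hsp.norm a (mem_inf.1 haB).1 u hu) ?_ ?_ h2 ?_
  · intro u hu v hv
    have h3 := hVs.conj_B u⁻¹ (inv_mem (hsp.le hu)) v hv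
    rwa [inv_inv] at h3
  · intro u hu h3
    exact hVs.stab u hu (hfa u hu (hstab _ h3))
  · exact fun u hu => hc a (hY haR) u (hUY hu)

end Cfsg.Agent.Omega.ML.Ex.Lie2.TwoNode
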