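import Cfsg.Agent.Omega.ML.Ex.Lie2.TwoNode
import Cfsg.Agent.Omega.ML.Ex.Wall
import Cfsg.Agent.Omega.ML.Ex.LA
import Cfsg.Agent.FixBN.OfBN
import Cfsg.Agent.UGT.U2.FOne.Mv
import Cfsg.Agent.S0320

/-!
# The rank two rows with perfect minimal parabolics (OMEGA, (6''), C4; helper978)

* **`tp_ne`** : over `InX` and (LA), some node fixes `m`: `tp (C_K(m)) c ≠ ∅` (any building, any rank, any `q`);
* **`dead_pair`** : `K` has a split (B,N)-pair of rank two with (F1) and fixed-point-free torus elements of the rank one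
  groups (`FpfR`, all four): then `InX`, `WPart`, `LA` are contradictory.
-/

set_option autoImplicit false
set_option linter.unusedSectionVars false

namespace Cfsg.Agent.Omega.ML.Ex.Lie2.TwoNode

open Cfsg.Agent.Tits.Core Cfsg.Agent.Tits.Core.Bldg Cfsg.Agent.Tits.Exchange Cfsg.Agent.Tits
open Cfsg.Agent.FixBN Cfsg.Agent.FixBN.Cox Cfsg.Agent.UGT.U2.FOne Cfsg.Agent.ZN Cfsg.Agent.Omega.ML.LieRow
open Cfsg.Agent.ParSys Cfsg.Agent.Omega.NOThree.NoOver
open Cfsg.Agent.MinSimple.VModule (o2_isPGroup o2_le le_o2 le_normalizer_o2 o2_le_of_sylow mem_normalizer_of_map_le)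

section lift

variable {X : Type*} [Group X] {M : Type*} [Group M] [MulDistribMulAction X M] {W : Type*} [CommGroup W]
  [MulDistribMulAction X W] {K T : Subgroup X} {p : W →* M}

theorem fix_of_chi (h : WPart K T p) {w : W} {x : X} (hx : x ∈ WPart.st K (p w)) (h1 : h.chi w ⟨x, hx⟩ = 1) :
    x • w = w := by
  have h2 := congrArg Subtype.val h1
  rw [WPart.chi_apply] at h2
  exact mul_inv_eq_one.1 h2

theorem fix_comm (h : WPart K T p) {w : W} {x y : X} (hx : x ∈ WPart.st K (p w)) (hy : y ∈ WPart.st K (p w)) :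
    (x * y * x⁻¹ * y⁻¹) • w = w := by
  refine fix_of_chi h (mul_mem (mul_mem (mul_mem hx hy) (inv_mem hx)) (inv_mem hy)) ?_
  have e : (⟨x * y * x⁻¹ * y⁻¹, mul_mem (mul_mem (mul_mem hx hy) (inv_mem hx)) (inv_mem hy)⟩ :
      (WPart.st K (p w) : Subgroup X)) = ⟨x, hx⟩ * ⟨y, hy⟩ * ⟨x, hx⟩⁻¹ * ⟨y, hy⟩⁻¹ := rfl
  rw [e, map_mul, map_mul, map_mul, map_inv, map_inv, mul_comm (h.chi w ⟨x, hx⟩) (h.chi w ⟨y, hy⟩),
    mul_inv_cancel_right, mul_inv_cancel]

theorem fix_sq (h : WPart K T p) {w : W} {x : X} (hx : x ∈ WPart.st K (p w)) : (x * x) • w = w := by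
  refine fix_of_chi h (mul_mem hx hx) ?_
  have e : (⟨x * x, mul_mem hx hx⟩ : (WPart.st K (p w) : Subgroup X)) = ⟨x, hx⟩ * ⟨x, hx⟩ := rfl
  rw [e, map_mul]
  exact Subtype.ext (h.sq _)

end lift

section tp

variable {I : Type*} {Mx : CoxeterMatrix I} {Wy : Type*} [Group Wy] {cs : CoxeterSystem Mx Wy} {C : Type*}
  {Δ : Bldg cs C}

variable {X : Type*} [Group X] [Finite X] {K : Subgroup X} [MulAction K C] (A' : HAct Δ K) [F : OppRes.Cox cs]
  (S : Sys Δ K 2)

include A' S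

/-- `C_X(m)` is proper. -/
theorem stab_ne_top {M : Type*} [Group M] [MulDistribMulAction X M] {T A : Subgroup X} {m : M}
    (hI : InX X M K T A) (hm : m ≠ 1) : MulAction.stabilizer X m ≠ ⊤ := by
  intro h
  have h1 : ∀ x : X, x • m = m := fun x => by
    have : x ∈ MulAction.stabilizer X m := by rw [h]; trivial
    exact this
  have h2 : Subgroup.zpowers m = ⊤ := by
    rcases hI.irr (Subgroup.zpowers m) (fun x w hw => by
      obtain ⟨k, rfl⟩ := Subgroup.mem_zpowers_iff.1 hw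
      rw [smul_zpow', h1]
      exact Subgroup.zpow_mem _ (Subgroup.mem_zpowers m) k) with h | h
    · exact absurd (Subgroup.zpowers_eq_bot.1 h) hm
    · exact h
  have h3 : ∀ x : X, x = 1 := fun x => hI.faith x fun v => by
    have hv : v ∈ Subgroup.zpowers m := by rw [h2]; trivial
    obtain ⟨k, rfl⟩ := Subgroup.mem_zpowers_iff.1 hv
    rw [smul_zpow', h1]
  have hs := hI.simple
  obtain ⟨k, hk⟩ := exists_ne (1 : K)
  exact hk (Subtype.ext (h3 k))

/-- **Some node fixes `m`.** -/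
theorem tp_ne [Nonempty I] (hth : Δ.Thick) {M : Type*} [Group M] [MulDistribMulAction X M] {T A : Subgroup X} {m : M}
    (hI : InX X M K T A) (hla : LA X M T A m) {c : C} (hc : ∀ t ∈ T, A'.θ t c = c) (hUc : S.U c = T.subgroupOf K) :
    (tp Δ ((MulAction.stabilizer X m).subgroupOf K) c).Nonempty := by
  have : Nonempty C := ⟨c⟩
  have hn := hI.norm
  have hs := hI.simple
  by_contra hcon
  rw [Set.not_nonempty_iff_eq_empty] at hcon
  set D₀ : Subgroup X := MulAction.stabilizer X m with hD₀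
  have hTD : T ≤ D₀ := fun t ht => hla.fix t ht
  have hD : D₀ ≠ ⊤ := stab_ne_top A' S hI hla.ne
  have hC : ∀ h : X, (∀ k ∈ K, h * k = k * h) → h = 1 := by
    intro x hx
    have h1 : x ∈ Subgroup.centralizer (K : Set X) := Subgroup.mem_centralizer_iff.2 fun k hk => (hx k hk).symm
    rwa [hI.cen, Subgroup.mem_bot] at h1
  have htr := Wall.not_trans_of_nmax A' S hth hc hUc hI.gen hI.nmax
  let FF : Set (Subgroup X) := {B | ∃ g : X, B = cj g A}
  have hinv : ∀ B ∈ FF, ∀ h : X, B.map (MulAut.conj h).toMonoidHom ∈ FF := by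
    rintro _ ⟨g, rfl⟩ h
    refine ⟨h * g, ?_⟩
    unfold cj
    rw [Subgroup.map_map, map_mul]
    rfl
  have la : ∀ B ∈ FF, B ≤ o2 D₀ → ∀ R : Subgroup X, T ≤ R → R ≠ ⊤ → B ≤ o2 R := by
    rintro _ ⟨g, rfl⟩ h R hTR hR
    exact hla.low g h R hTR hR
  set E : Set (Subgroup X) := {B | B ∈ FF ∧ B ≤ o2 D₀} with hE
  set D : Subgroup X := sSup E with hDdef
  have hBE : ∀ B ∈ FF, B ≤ o2 D₀ → B ≤ D := fun B hB hBD => le_sSup ⟨hB, hBD⟩
  have hDo : D ≤ o2 D₀ := sSup_le fun B hB => hB.2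
  have hDT : D ≤ T := hDo.trans
    (o2_le_of_sylow hI.two fun h => hI.syl (h.trans (Subgroup.relIndex_dvd_index_of_le hTD)))
  have hperm : ∀ g : X, (∀ B ∈ FF, B ≤ o2 D₀ → B.map (MulAut.conj g).toMonoidHom ≤ o2 D₀) →
      g ∈ Subgroup.normalizer (D : Set X) := by
    intro g hg
    apply mem_normalizer_of_map_le
    rw [Subgroup.map_le_iff_le_comap]
    refine sSup_le fun B hB => ?_
    rw [← Subgroup.map_le_iff_le_comap]
    exact hBE _ (hinv B hB.1 g) (hg B hB.1 hB.2)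
  have hD₀N : D₀ ≤ Subgroup.normalizer (D : Set X) := by
    intro g hg
    apply hperm
    rintro B hB hBD _ ⟨b, hb, rfl⟩
    exact (Subgroup.mem_normalizer_iff.1 (le_normalizer_o2 D₀ hg) b).1 (hBD hb)
  have hUN : S.U c ≤ (Subgroup.normalizer (D : Set X)).subgroupOf K := by
    rw [hUc]
    exact fun k hk => hD₀N (hTD hk)
  have htp : tp Δ ((Subgroup.normalizer (D : Set X)).subgroupOf K) c = Set.univ := by
    rw [Set.eq_univ_iff_forall]
    intro i
    obtain ⟨y, -, -, hy, -⟩ := hth c i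
    obtain ⟨k, rfl⟩ := exists_smul_top S hth c y
    refine ⟨k, ?_, hy⟩
    rw [Subgroup.mem_subgroupOf, ← inv_mem_iff]
    apply hperm
    intro B hB hBD
    refine Wall.wall_conj A' S hth hC hI.two hI.syl hI.gen htr hc hUc hinv hTD hD la (i := i) ?_ ?_ (Or.inr hy) hB hBD
    · rw [hcon]; exact Set.notMem_empty i
    · intro v _ j hj
      rw [hcon] at hj
      exact absurd hj (Set.notMem_empty j)
  have hKN : (Subgroup.normalizer (D : Set X)).subgroupOf K = ⊤ := eq_top_of_tp S hth hUN htp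
  have hD1 : D = ⊥ := by
    rw [eq_bot_iff]
    intro x hx
    rw [Subgroup.mem_bot]
    refine Wall.eq_one_of_θ A' S hth hC fun y => ?_
    obtain ⟨g, rfl⟩ := exists_smul_top S hth c y
    have h1 : (g : X)⁻¹ ∈ Subgroup.normalizer (D : Set X) := by
      have : g⁻¹ ∈ (Subgroup.normalizer (D : Set X)).subgroupOf K := by rw [hKN]; trivial
      exact this
    have h2 := (Subgroup.mem_normalizer_iff.1 h1 x).1 hx
    rw [inv_inv] at h2
    have h3 := hc _ (hDT h2)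
    have h4 : A'.θ (g : X) (A'.θ ((g : X)⁻¹ * x * g) c) = A'.θ x (g • c) := by
      rw [← A'.θ_mul, ← A'.θ_K, ← A'.θ_mul]
      congr 1
      group
    rw [← h4, h3, A'.θ_K]
  have hAD : A ≤ D := by
    refine hBE A ⟨1, ?_⟩ (hI.low D₀ hTD hD)
    unfold cj
    rw [map_one]
    exact (Subgroup.map_id A).symm
  have h5 := hI.four
  rw [hD1, le_bot_iff] at hAD
  rw [hAD, Subgroup.card_bot] at h5
  omega

end tp

section dead

variable {X : Type*} [Group X] [Finite X] {M : Type*} [Group M] [Finite M] [MulDistribMulAction X M] {W : Type*}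
  [CommGroup W] [Finite W] [MulDistribMulAction X W] {K T A : Subgroup X} {p : W →* M} {m : M}

open Cfsg.Agent.Tits.OfBN Cfsg.Agent.LieExceptional.BNPairCore in
/-- adjacent chambers -/
theorem adj {L : Type*} [Group L] (Q : Cfsg.BNPair L) [hN : ((Q.B ⊓ Q.N).subgroupOf Q.N).Normal] {I : Type*}
    {Mx : CoxeterMatrix I} (e : I ≃ Q.S) (cs : CoxeterSystem Mx (WP Q))
    (hcs : ∀ i, cs.simple i = QuotientGroup.mk (⟨(e i : L), Q.subset (e i).2⟩ : Q.N)) (k : L) (i : I) :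
    (bldg Q e cs hcs).δ (QuotientGroup.mk k) (QuotientGroup.mk (k * (e i : L))) = cs.simple i := by
  rw [bldg_δ_mk, hcs]
  apply wt_of_mem Q
  have h1 : k⁻¹ * (k * (e i : L)) = (e i : L) := by group
  rw [h1]
  exact self_mem_C _

/-- the argument at one node of the type of `C_K(m)` -/
theorem false_of_node [K.Normal] (hI : InX X M K T A) (hW : WPart K T p) (hm : m ≠ 1) (hmT : ∀ t ∈ T, t • m = m)
    {Q : Cfsg.BNPair K} {UE : Subgroup K} {s t : K} (hsp : FixBN.Split Q 2 UE) (hsS : s ∈ Q.S) (htS : t ∈ Q.S)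
    (one : FOne Q UE s t) (hss : FpfR Q UE s s) (hts : FpfR Q UE t s) {k g : K}
    (hU : ∀ u : K, (u : X) ∈ T ↔ k⁻¹ * u * k ∈ UE) (hg : (g : X) • m = m)
    (hgs : (k * s)⁻¹ * (g * k) ∈ Q.B) : False := by
  obtain ⟨w, rfl⟩ := hW.surj m
  -- `Y' = C_K(m)^k`, `D' = C_K(w)^k`
  let Y : Subgroup K := (MulAction.stabilizer X (p w)).subgroupOf K
  let D : Subgroup K := (MulAction.stabilizer X w).subgroupOf K
  have hYD : ∀ x : K, x ∈ Y → (x : X) ∈ WPart.st K (p w) := fun x hx => ⟨x.2, hx⟩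
  have hUY : ∀ u ∈ UE, k * u * k⁻¹ ∈ Y := by
    intro u hu
    have h1 : ((k * u * k⁻¹ : K) : X) ∈ T := by
      rw [hU]
      have e : k⁻¹ * (k * u * k⁻¹) * k = u := by group
      rwa [e]
    exact hmT _ h1
  have hsY : ∀ u ∈ UE, k * (s * u * s⁻¹) * k⁻¹ ∈ Y := by
    intro u hu
    have hgY : g ∈ Y := hg
    have h1 := hsp.norm ((k * s)⁻¹ * (g * k))⁻¹ (inv_mem hgs) u hu
    have h2 := mul_mem (mul_mem hgY (hUY _ h1)) (inv_mem hgY)
    have e : g * (k * (((k * s)⁻¹ * (g * k))⁻¹ * u * ((k * s)⁻¹ * (g * k))⁻¹⁻¹) * k⁻¹) * g⁻¹ =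
        k * (s * u * s⁻¹) * k⁻¹ := by group
    rwa [e] at h2
  have h1 : UE ≤ D.comap (MulAut.conj k).toMonoidHom := by
    refine le_of_pair (Y := Y.comap (MulAut.conj k).toMonoidHom) hsp hsS htS one hss hts ?_ ?_ ?_
    · refine sup_le (fun u hu => hUY u hu) ?_
      rintro _ ⟨u, hu, rfl⟩
      exact hsY u hu
    · intro x hx y hy
      have h1 := fix_comm hW (hYD _ hx) (hYD _ hy)
      change ((((MulAut.conj k).toMonoidHom (x * y * x⁻¹ * y⁻¹) : K)) : X) • w = w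
      rw [map_mul, map_mul, map_mul, map_inv, map_inv]
      exact h1
    · intro x hx
      have h1 := fix_sq hW (hYD _ hx)
      change ((((MulAut.conj k).toMonoidHom (x * x) : K)) : X) • w = w
      rw [map_mul]
      exact h1
  have hodd : ¬ 2 ∣ (T ⊓ K).relIndex K := by
    rw [Subgroup.inf_relIndex_right]
    exact Lib.SylowNormalInf.not_dvd_relIndex (hI.two.toSylow hI.syl) K
  obtain ⟨x, hx, hxw⟩ := hW.moved hI.two hI.norm hodd hm
  apply hxw
  have h2 : k⁻¹ * (⟨x, hx.2⟩ : K) * k ∈ UE := (hU ⟨x, hx.2⟩).1 hx.1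
  have h3 := h1 h2
  have h4 : (((MulAut.conj k).toMonoidHom (k⁻¹ * (⟨x, hx.2⟩ : K) * k) : K) : X) • w = w := h3
  have e : (MulAut.conj k).toMonoidHom (k⁻¹ * (⟨x, hx.2⟩ : K) * k) = ⟨x, hx.2⟩ := by
    change k * (k⁻¹ * (⟨x, hx.2⟩ : K) * k) * k⁻¹ = _
    group
  rw [e] at h4
  exact h4

/-- **Rank two, all four `FpfR`.** -/
theorem dead_pair (hI : InX X M K T A) (hW : WPart K T p) (hla : LA X M T A m) {Q : Cfsg.BNPair K} {UE : Subgroup K}
    {s t : K} (hsp : FixBN.Split Q 2 UE) (hS : Q.S = {s, t}) (one : FOne Q UE s t) (hss : FpfR Q UE s s)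
    (hst : FpfR Q UE s t) (hts : FpfR Q UE t s) (htt : FpfR Q UE t t) : False := by
  have hn := hI.norm
  have hs := hI.simple
  have : Fact (Nat.Prime 2) := ⟨Nat.prime_two⟩
  have hN : ((Q.B ⊓ Q.N).subgroupOf Q.N).Normal := Tits.OfBN.normal_subgroupOf Q
  obtain ⟨Mx, cs, hcs⟩ := S0320.result Q
  have hIf : Finite Q.S := OfBN.finite_I (Equiv.refl Q.S)
  have hsS : s ∈ Q.S := by rw [hS]; simp
  have htS : t ∈ Q.S := by rw [hS]; simp
  have hIn : Nonempty Q.S := ⟨⟨s, hsS⟩⟩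
  let S := OfBN.sys (Equiv.refl Q.S) cs hcs hsp
  have hth := Tits.OfBN.thick Q (Equiv.refl Q.S) cs hcs
  obtain ⟨A'⟩ := exists_hact S hth (fun τ => UGT.U2.FOne.exists_mv hsp (Equiv.refl Q.S) cs hcs τ)
  obtain ⟨c, hc, hUc⟩ := exists_chamber A' S hth hI.two hI.syl
  obtain ⟨i, hi⟩ := tp_ne A' S hth hI hla hc hUc
  have hUY : S.U c ≤ (MulAction.stabilizer X m).subgroupOf K := by
    rw [hUc]
    exact fun k hk => hla.fix _ hk
  induction c using QuotientGroup.induction_on with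
  | _ k =>
  have hU : ∀ u : K, (u : X) ∈ T ↔ k⁻¹ * u * k ∈ UE := by
    intro u
    have h1 : u ∈ S.U (QuotientGroup.mk k) ↔ k⁻¹ * u * k ∈ UE := OfBN.mem_UU hsp
    rw [hUc, Subgroup.mem_subgroupOf] at h1
    exact h1
  have hy : (Tits.OfBN.bldg Q (Equiv.refl Q.S) cs hcs).δ (QuotientGroup.mk k) (QuotientGroup.mk (k * (i : K))) =
      cs.simple i := adj Q (Equiv.refl Q.S) cs hcs k i
  obtain ⟨g, hgY, hgc⟩ := exists_smul_pan S hUY hi hy
  have hg : (g : X) • m = m := hgY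
  have hgs : (k * (i : K))⁻¹ * (g * k) ∈ Q.B := by
    have h1 : (QuotientGroup.mk (k * (i : K)) : K ⧸ Q.B) = QuotientGroup.mk (g * k) := hgc.symm
    exact OfBN.mk_eq.1 h1
  have hi2 : (i : K) ∈ ({s, t} : Set K) := hS ▸ i.2
  rcases hi2 with h1 | h1
  · rw [h1] at hgs
    exact false_of_node hI hW hla.ne hla.fix hsp hsS htS one hss hts hU hg hgs
  · rw [Set.mem_singleton_iff] at h1
    rw [h1] at hgs
    refine false_of_node hI hW hla.ne hla.fix hsp htS hsS ?_ htt hst hU hg hgs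
    intro T' hT' hcov
    exact one T' hT' fun e he => by
      obtain ⟨x, hx, h2, h3⟩ := hcov e he
      exact ⟨x, hx, h3, h2⟩

end dead

end Cfsg.Agent.Omega.ML.Ex.Lie2.TwoNode
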