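import Cfsg.Agent.Omega.ML.Ex.Lie2.TwoNodeDead
import Cfsg.Agent.ParSys.Fam.TwoFFour
import Cfsg.Agent.ParSys.OfQuasi

/-!
# `²F₄(q)`, `q ≥ 8` : the row with the W-part and (LA) (OMEGA, (6''), C4; helper978)

* `exists_own` : the torus of each rank one group is fixed-point-free on both quotients `U / V_s`, `U / V_t`;
* `dead_twF4` : the row.
-/

set_option autoImplicit false
set_option linter.unusedSectionVars false
set_option linter.style.haveILetI false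

namespace Cfsg.Agent.Omega.ML.Ex.Lie2.TwoNode

open Cfsg.Lie
open Cfsg.Agent.ChevalleyStructure.TwF4.Tables
open Cfsg.Agent.ChevalleyStructure.TwF4.Rel
open Cfsg.Agent.ChevalleyStructure.TwF4.Groups Cfsg.Agent.ChevalleyStructure.TwF4.RankOne
open Cfsg.Agent.ChevalleyStructure.TwF4.Twisted Cfsg.Agent.ChevalleyStructure.TwF4.TwistedFix
open Cfsg.Agent.ChevalleyStructure.TwF4.BN
open Cfsg.Agent.ChevalleyStructure.TwF4.Torus (T chi T_conj_X T_inr chi_def)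
open Cfsg.Agent.ChevalleyStructure.F4NTab (ca)
open Cfsg.Agent.ChevalleyStructure.TwF4.TwGen (tc tc_mul chi_tc_24 chi_tc_25 chi_tc_33 chi_tc_27 chi28 chi30 pow_all
  n1_eq n2_eq n1_conj_T n2_conj_T)
open Cfsg.Agent.ChevalleyStructure.TwF4.TorusFix (mem_iff pow_unit T_rt rt)
open Cfsg.Agent.ChevalleyStructure.TwF4.Fix (Fix)
open Cfsg.Agent.ChevalleyStructure.TwF4.OrderCls (X_inj)
open Cfsg.Agent.Schreier.TwFFour
open Cfsg.Agent.Octagon.KSys Cfsg.Agent.Octagon.KPar Cfsg.Agent.Octagon.KRoot Cfsg.Agent.Octagon.Pkg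

open Cfsg.Agent.ParSys Cfsg.Agent.ParSys.Fam Cfsg.Agent.ParSys.Fam.TwoFFour

theorem one_of_sq {G : Type*} [Group G] {x : G} {e : ℕ} (h1 : x ^ 2 = (x ^ e) ^ 2) (h2 : x ^ (2 * e * e) = x) :
    x = 1 := by
  have h3 : (x ^ 2) ^ e = x ^ 2 := by rw [← pow_mul, mul_comm, pow_mul]; exact h1.symm
  rw [pow_mul, pow_mul, h3, h3, pow_two] at h2
  exact mul_eq_left.1 h2

section Final

variable {K : Type*} [Field K] [Fintype K] {m : ℕ}

/-- **`²F₄(q)`, `q ≥ 8`: (F1) and the tori of the rank one groups.** -/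
theorem exists_own (hm : 1 ≤ m) (hK : Fintype.card K = 2 ^ (2 * m + 1)) :
    ∃ (Q : Cfsg.BNPair ↥(twistedF4 K (2 ^ m))) (UE : Subgroup ↥(twistedF4 K (2 ^ m)))
      (s t : ↥(twistedF4 K (2 ^ m))), FixBN.Split Q 2 UE ∧ Q.S = {s, t} ∧ FOne Q UE s t ∧ FpfR Q UE s s ∧
        FpfR Q UE s t ∧ FpfR Q UE t s ∧ FpfR Q UE t t := by
  haveI : CharP K 2 := charP_two hK
  haveI : Fact (Nat.Prime 2) := ⟨Nat.prime_two⟩
  obtain ⟨φ, hφ⟩ := exists_rln hK
  obtain ⟨P, hPB, hPN, -, hPS⟩ := Cfsg.Agent.ChevalleyStructure.TwF4.BNIrred.exists_bnPair_irreducible hφ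
  have hB : P.B = B0 K (2 ^ m) := hPB
  have hdec := dec hK hφ
  have hUp := isPGroup_U0 hK
  obtain ⟨c, hc0, hc1⟩ := card_ge hm hK
  set s1 : ↥(twistedF4 K (2 ^ m)) := m1 K (2 ^ m) with hs1
  set s2 : ↥(twistedF4 K (2 ^ m)) := m2 hφ with hs2
  have node_1 : Cfsg.Agent.Schreier.BNSch.Node P (U0 K (2 ^ m)) s1 (V1 K (2 ^ m)) := node1 hφ hB
  have node_2 : Cfsg.Agent.Schreier.BNSch.Node P (U0 K (2 ^ m)) s2 (V8 K (2 ^ m)) := node2 hφ hB
  have hdB : ∀ b ∈ P.B, ∃ s t : Kˣ, ∃ u ∈ U0 K (2 ^ m), b = u * tt hdec s t := by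
    intro b hb
    rw [hB] at hb
    obtain ⟨s, t, u, hu, hbu⟩ := hdec.1 b hb
    exact ⟨s, t, u, hu, Subtype.ext hbu⟩
  have httB : ∀ s t : Kˣ, tt hdec s t ∈ P.B := fun s t => by rw [hB]; exact tt_B0 hdec s t
  have httN : ∀ s t : Kˣ, tt hdec s t ∈ P.N := fun s t => by
    rw [hPN]
    exact Cfsg.Agent.ChevalleyStructure.TwF4.NStruct.T_mem_N _
  have hH : ∀ h ∈ P.B, h ∈ P.N → ∃ s t : Kˣ, h = tt hdec s t := by
    intro h hh hN
    rw [hPB, Subgroup.mem_subgroupOf] at hh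
    rw [hPN, Subgroup.mem_subgroupOf] at hN
    have h1 := borel_inf_N ⟨hh, hN⟩
    obtain ⟨s, t, hst⟩ := (mem_iff hK (h : GL chevF4.Idx K)).1 ⟨h1, h.2⟩
    exact ⟨s, t, Subtype.ext hst⟩
  have hUB : U0 K (2 ^ m) ≤ P.B := by rw [hB]; exact U0_le_B0
  have hnorm : ∀ b ∈ P.B, ∀ u ∈ U0 K (2 ^ m), b * u * b⁻¹ ∈ U0 K (2 ^ m) := fun b hb u hu => by
    rw [hB] at hb
    exact conj_U0 hb hu
  have hsplit : FixBN.Split P 2 (U0 K (2 ^ m)) :=
    { le := hUB
      norm := hnorm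
      isP := hUp
      cover := fun b hb => by
        obtain ⟨s, t, u, hu, rfl⟩ := hdB b hb
        refine ⟨u, hu, ?_⟩
        rw [inv_mul_cancel_left]
        exact httN s t
      tor := ⟨2 ^ (2 * m + 1) - 1, by
        have h1 : 2 ∣ 2 ^ (2 * m + 1) := dvd_pow_self 2 (by omega)
        have h2 : 0 < 2 ^ (2 * m + 1) := by positivity
        omega, fun h hh hN => by
        obtain ⟨s, t, rfl⟩ := hH h hh hN
        apply Subtype.ext
        show T (tc (2 ^ m) s t) ^ (2 ^ (2 * m + 1) - 1) = 1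
        rw [← map_pow]
        have h2 : tc (2 ^ m) s t ^ (2 ^ (2 * m + 1) - 1) = 1 := by
          have h3 : ∀ x : Kˣ, x ^ (2 ^ (2 * m + 1) - 1) = 1 := by
            intro x
            have h4 := pow_card_eq_one' (x := x)
            rwa [Nat.card_units, Nat.card_eq_fintype_card, hK] at h4
          funext l
          rw [Pi.pow_apply, h3]; rfl
        rw [h2, map_one]⟩
      node := by
        intro s hs
        rw [hPS] at hs
        rcases hs with rfl | hs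
        · exact ⟨_, node_1⟩
        · rw [Set.mem_singleton_iff] at hs
          subst hs
          exact ⟨_, node_2⟩
      core := by
        obtain ⟨hsimp, -⟩ := Cfsg.Agent.S1072.result hm hK
        rcases hsimp.eq_bot_or_eq_top_of_normal P.B.normalCore inferInstance with h | h
        · exact h
        · exfalso
          have h1 : P.B = ⊤ := by
            rw [eq_top_iff, ← h]
            exact Subgroup.normalCore_le _
          obtain ⟨u, hu, huV⟩ := node_1.ne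
          exact huV (node_1.stab u hu (by rw [h1]; exact Subgroup.mem_top _)) }
  have hV1B : ∀ v ∈ V1 K (2 ^ m), v ∈ P.B := fun v hv => hUB (node_1.le hv)
  have hV8B : ∀ v ∈ V8 K (2 ^ m), v ∈ P.B := fun v hv => hUB (node_2.le hv)
  -- elements of `h u h⁻¹ u⁻¹`
  have hcU : ∀ s t : Kˣ, ∀ u ∈ U0 K (2 ^ m), tt hdec s t * u * (tt hdec s t)⁻¹ * u⁻¹ ∈ U0 K (2 ^ m) :=
    fun s t u hu => mul_mem (tt_conj_U0 hdec s t u hu) (inv_mem hu)
  have hfpf1 : ∀ s t : Kˣ, chi (tc (2 ^ m) s t) 24 ≠ 1 → ∀ u ∈ U0 K (2 ^ m),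
      s1⁻¹ * (tt hdec s t * u * (tt hdec s t)⁻¹ * u⁻¹) * s1 ∈ P.B → s1⁻¹ * u * s1 ∈ P.B :=
    fun s t hst u hu h => hV1B _ (node_1.conj_s _ (fpf1 hφ hdec hst hu (node_1.stab _ (hcU s t u hu) h)))
  have hfpf2 : ∀ s t : Kˣ, chi (tc (2 ^ m) s t) 25 ≠ 1 → ∀ u ∈ U0 K (2 ^ m),
      s2⁻¹ * (tt hdec s t * u * (tt hdec s t)⁻¹ * u⁻¹) * s2 ∈ P.B → s2⁻¹ * u * s2 ∈ P.B :=
    fun s t hst u hu h => hV8B _ (node_2.conj_s _ (fpf2 hφ hdec hst hu (node_2.stab _ (hcU s t u hu) h)))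
  set γ : Kˣ := Units.mk0 c hc0 with hγ
  have hγ1 : γ ≠ 1 := fun h => hc1 (by
    have := congrArg (fun x : Kˣ => (x : K)) h
    simpa [hγ] using this)
  have he : γ ^ 2 ≠ 1 := by
    intro h
    have h1 : ((γ : K)) ^ 2 = 1 := by
      have := congrArg (fun x : Kˣ => (x : K)) h
      simpa using this
    have h2 : ((γ : K) + 1) ^ 2 = 0 := by
      rw [add_sq, h1, one_pow]
      have h3 : (2 : K) = 0 := CharTwo.two_eq_zero
      rw [h3, zero_mul, zero_mul, add_zero]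
      exact CharTwo.add_self_eq_zero 1
    have h4 : (γ : K) + 1 = 0 := pow_eq_zero_iff (two_ne_zero) |>.1 h2
    apply hγ1
    apply Units.ext
    rw [Units.val_one]
    exact (CharTwo.add_eq_iff_eq_add.1 h4).trans (zero_add 1)
  refine ⟨P, U0 K (2 ^ m), s1, s2, hsplit, hPS, ?_, ?_, ?_, ?_, ?_⟩
  · intro T0 hT0 hcov
    refine OctPerf.le_of_sup hUp hT0 ?_
    intro u hu
    obtain ⟨x, hx, h1, h2⟩ := hcov u hu
    have hxu : x⁻¹ * u ∈ U0 K (2 ^ m) := mul_mem (inv_mem (hT0 hx)) hu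
    have h3 := node_1.stab _ hxu h1
    have h4 := node_2.stab _ hxu h2
    have h5 := V_inf hφ hc0 hc1 h3 h4
    have h6 : u = x * (x⁻¹ * u) := by group
    rw [h6]
    exact mul_mem (Subgroup.mem_sup_left hx) (Subgroup.mem_sup_right h5)
  · refine ⟨tt hdec 1 γ, tt_mem1 hφ hdec _, ⟨httB _ _, httN _ _⟩, hfpf1 _ _ ?_⟩
    rw [chi_tc_24, inv_one, one_mul]
    exact he
  · refine ⟨tt hdec γ⁻¹ 1, tt_mem2 hφ hdec _, ⟨httB _ _, httN _ _⟩, hfpf1 _ _ ?_⟩
    rw [chi_tc_24, inv_inv, one_pow, mul_one]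
    exact hγ1
  · refine ⟨tt hdec 1 γ⁻¹, tt_mem1 hφ hdec _, ⟨httB _ _, httN _ _⟩, hfpf2 _ _ ?_⟩
    rw [chi_tc_25]
    simpa using hγ1
  · refine ⟨tt hdec γ 1, tt_mem2 hφ hdec _, ⟨httB _ _, httN _ _⟩, hfpf2 _ _ ?_⟩
    rw [chi_tc_25, inv_one, mul_one]
    intro h
    have h1 : γ ^ 2 = (γ ^ 2 ^ m) ^ 2 := by
      have := inv_mul_eq_one.1 h
      exact this.symm
    exact hγ1 (one_of_sq h1 (units_pow hφ γ))

end Final

/-- **The row `²F₄(q)`, `q ≥ 8`.** -/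
theorem dead_twF4 {X : Type*} [Group X] [Finite X] {M : Type*} [Group M] [Finite M] [MulDistribMulAction X M]
    {W : Type*} [CommGroup W] [Finite W] [MulDistribMulAction X W] {K T A : Subgroup X} {p : W →* M} {m : M}
    (hI : InX X M K T A) (hW : WPart K T p) (hla : LA X M T A m) (hK : Iso2F4 K) : False := by
  obtain ⟨F, _, _, n, hn, hF, ⟨f⟩⟩ := hK
  obtain ⟨Q, UE, s, t, hsp, hS, one, hss, hst, hts, htt⟩ := exists_own hn hF
  refine dead_pair hI hW hla (Q := FixBN.Transport.mapBN f.symm Q) (UE := UE.map f.symm.toMonoidHom) (s := f.symm s)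
    (t := f.symm t) (FixBN.Transport.split f.symm Q hsp) ?_ (fOne_map f.symm one) (fpfR_map f.symm hss)
    (fpfR_map f.symm hst) (fpfR_map f.symm hts) (fpfR_map f.symm htt)
  show f.symm '' Q.S = _
  rw [hS, Set.image_pair]

universe u v w

/-- **The row, literal form.** -/
theorem deadXL_twF4 : DeadXL.{u, v, w} fun S _ => Iso2F4 S :=
  fun _ _ _ _ _ _ _ _ _ _ _ _ _ _ _ _ hI hW hL hK => dead_twF4 hI hW hL hK

end Cfsg.Agent.Omega.ML.Ex.Lie2.TwoNode
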